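import Cfsg.Agent.H408.Out
import Cfsg.Agent.H408.Engine
import Cfsg.Agent.H660.SporPrimeIndex
import Cfsg.Agent.OddHalf.D8.M11
import Cfsg.Agent.H417.RecogMathieu
import Cfsg.Prelude.Def_Sporadic

/-!
# Sporadic groups with a self-centralising element of prime order: the engine (helper408)

* `Self r G` : there is a self-centralising element of order `r`;
* `good_of_cent` : the check `chk n l p r v [] = true` for the prime `p ≠ r`;
* `idx_self` : the prime `r` itself (index `r`);
* `row` : a row of the table.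
-/

set_option autoImplicit false

namespace Cfsg.Agent.H408.SporEng

open Subgroup Cfsg Cfsg.Agent.H408.Idx8 Cfsg.Agent.H408.Core Cfsg.Agent.H408.Engine Cfsg.Agent.OrdDiv

universe u v

/-- there is a self-centralising element of order `r` -/
def Self (r : ℕ) (G : Type u) [Group G] : Prop :=
  ∃ x : G, orderOf x = r ∧ Nat.card (centralizer ({x} : Set G)) = r

theorem Self.congr {r : ℕ} {G : Type u} [Group G] {G' : Type v} [Group G'] (e : G ≃* G') (h : Self r G) : Self r G' := by
  obtain ⟨x, hx, hc⟩ := h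
  refine ⟨e x, by rw [MulEquiv.orderOf_eq, hx], ?_⟩
  rw [← hc]
  refine (Nat.card_congr (Equiv.ofBijective
    (fun c : centralizer ({x} : Set G) => (⟨e c, ?_⟩ : centralizer ({e x} : Set G'))) ⟨?_, ?_⟩)).symm
  · rw [mem_centralizer_singleton_iff, ← map_mul, ← map_mul, mem_centralizer_singleton_iff.1 c.2]
  · intro a b hab
    exact Subtype.ext (e.injective (congrArg Subtype.val hab))
  · rintro ⟨c, hcc⟩
    refine ⟨⟨e.symm c, ?_⟩, Subtype.ext (e.apply_symm_apply c)⟩
    rw [mem_centralizer_singleton_iff]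
    apply e.injective
    rw [map_mul, map_mul, e.apply_symm_apply, mem_centralizer_singleton_iff.1 hcc]

/-- all primes except `r` and those of `bad` checked -/
def chkAll (n : ℕ) (l : List (ℕ × ℕ)) (r : ℕ) (bad : List ℕ) : Bool :=
  l.all fun x => (x.1 == r) || bad.contains x.1 || chk n l x.1 r x.2 []

theorem centralizer_zpowers_eq {G : Type*} [Group G] (x : G) :
    centralizer ((zpowers x : Subgroup G) : Set G) = centralizer {x} := by
  rw [zpowers_eq_closure, centralizer_closure]

theorem Self.of_sub {r : ℕ} (hr : r.Prime) {G : Type u} [Group G] [Finite G] {P : Subgroup G} (hP : Nat.card P = r)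
    (hC : Nat.card (centralizer (P : Set G)) = r) : Self r G := by
  have hrf : Fact r.Prime := ⟨hr⟩
  obtain ⟨y, hy⟩ := exists_prime_orderOf_dvd_card' (G := P) r (by rw [hP])
  have hy' : orderOf (y : G) = r := by rw [orderOf_coe]; exact hy
  refine ⟨y, hy', ?_⟩
  have hz : zpowers (y : G) = P := by
    apply eq_of_le_of_card_ge (zpowers_le.2 y.2)
    rw [Nat.card_zpowers, hy', hP]
  rw [← centralizer_zpowers_eq, hz, hC]

theorem Self.of_eq {r : ℕ} (hr : r.Prime) {G : Type u} [Group G] [Finite G] {P : Subgroup G} (hP : Nat.card P = r)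
    (hC : centralizer (P : Set G) = P) : Self r G := Self.of_sub hr hP (by rw [hC, hP])

theorem Self.of_all {r : ℕ} (hr : r.Prime) {G : Type u} [Group G] [Finite G] (hd : r ∣ Nat.card G)
    (h : ∀ x : G, orderOf x = r → Nat.card (centralizer ({x} : Set G)) = r) : Self r G := by
  have hrf : Fact r.Prime := ⟨hr⟩
  obtain ⟨x, hx⟩ := exists_prime_orderOf_dvd_card' (G := G) r hd
  exact ⟨x, hx, h x hx⟩

theorem Self.of_hom {G : Type u} {H : Type v} [Group G] [Group H] [Finite H] (φ : G →* H) (hφ : Function.Injective φ) {r : ℕ}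
    (hr : r.Prime) (hd : r ∣ Nat.card G) (h : ∀ x : H, orderOf x = r → Nat.card (centralizer ({x} : Set H)) = r) :
    Self r G := by
  have hfin : Finite G := Finite.of_injective φ hφ
  refine Self.of_all hr hd fun x hx => ?_
  have h1 := h (φ x) (by rw [orderOf_injective φ hφ, hx])
  have h2 : Nat.card (centralizer ({x} : Set G)) ∣ Nat.card (centralizer ({φ x} : Set H)) := by
    rw [Nat.card_congr ((centralizer ({x} : Set G)).equivMapOfInjective φ hφ).toEquiv]
    refine card_dvd_of_le ?_
    rintro _ ⟨g, hg, rfl⟩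
    rw [SetLike.mem_coe, mem_centralizer_singleton_iff] at hg
    rw [mem_centralizer_singleton_iff, ← map_mul, ← map_mul, hg]
  rw [h1] at h2
  rcases (Nat.dvd_prime hr).1 h2 with h3 | h3
  · exfalso
    have h4 : orderOf x ∣ Nat.card (centralizer ({x} : Set G)) :=
      Subgroup.orderOf_dvd_natCard _ (mem_centralizer_singleton_iff.2 rfl)
    rw [h3, hx] at h4
    exact hr.one_lt.ne' (Nat.dvd_one.1 h4)
  · exact h3

theorem good_of_cent (T : OrderTable.{0})
    (hS : ∀ (X : Type) [Group X] [Finite X] [IsSimpleGroup X], IsKnownSimple' X) {M : Type} [Group M] [Finite M]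
    [IsSimpleGroup M] {n r : ℕ} (hn : Nat.card M = n) {l : List (ℕ × ℕ)} (hv : valid l n = true)
    (hr : r.Prime) (hc : Self r M) {bad : List ℕ} (hchk : chkAll n l r bad = true) {p : ℕ} (hp : p.Prime)
    (hpr : p ≠ r) (hb : p ∉ bad) : Good p M := by
  by_cases hpn : p ∣ n
  · obtain ⟨x, hx, h1⟩ := hc
    have hR : Nat.card (zpowers x) = r := by rw [Nat.card_zpowers, hx]
    have hC : centralizer ((zpowers x : Subgroup M) : Set M) = zpowers x := by
      rw [centralizer_zpowers_eq]
      symm
      apply eq_of_le_of_card_ge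
      · rw [zpowers_le, mem_centralizer_singleton_iff]
      · rw [hR, h1]
    obtain ⟨w, hw, h1w⟩ := exists_pair hv hp Nat.one_pos (by rwa [pow_one])
    unfold chkAll at hchk
    rw [List.all_eq_true] at hchk
    have h2 := hchk _ hw
    simp only [Bool.or_eq_true, beq_iff_eq, List.contains_eq_mem, decide_eq_true_eq] at h2
    rcases h2 with (h2 | h2) | h2
    · exact absurd h2 hpr
    · exact absurd h2 hb
    · exact good_of_chk T hS hp hr (Ne.symm hpr) hn hv hR hC (ex := []) (by simp) (valid_exact hv _ hw) h2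
  · intro H k hH
    have h1 := Subgroup.index_dvd_card H
    rw [hH, hn] at h1
    by_cases hk : k = 0
    · rw [hk, pow_zero] at hH
      exact index_eq_one.1 hH
    · exact absurd ((dvd_pow_self p hk).trans h1) hpn

/-- the prime `r`, exactly dividing the order -/
theorem idx_self {G : Type u} [Group G] [Finite G] [IsSimpleGroup G] (hna : ¬ IsMulCommutative G) (h : IsSporadicGroup G) {r : ℕ}
    (hr : r.Prime) (hr2 : ¬ r ^ 2 ∣ Nat.card G) : Idx G r := by
  intro H k hk hH
  have h1 := Subgroup.index_dvd_card H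
  have hk1 : k = 1 := by
    by_contra hne
    apply hr2
    rw [hH] at h1
    exact (pow_dvd_pow r (by omega)).trans h1
  subst hk1
  rw [pow_one] at hH
  rcases Cfsg.Agent.H660.SporPrimeIndex.sporadic_prime_index hna h H r hr hH with ⟨rfl, h2⟩ | ⟨rfl, h2⟩
  · exact Or.inr (Or.inr (Or.inl ⟨by norm_num, Or.inr (Cfsg.Agent.OddHalf.D8.M11.isM11 h2)⟩))
  · exact Or.inr (Or.inr (Or.inr (Or.inl ⟨by norm_num, Cfsg.Agent.H417.RecogMathieu.isM23 h2⟩)))

theorem not_comm {G : Type u} [Group G] [Finite G] [IsSimpleGroup G] (hc : ¬ (Nat.card G).Prime) :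
    ¬ IsMulCommutative G := by
  intro h
  let _ : CommGroup G := { (inferInstance : Group G) with mul_comm := h.is_comm.comm }
  exact hc IsSimpleGroup.prime_card

/-- a row of the table -/
theorem row (T : OrderTable.{0})
    (hS : ∀ (X : Type) [Group X] [Finite X] [IsSimpleGroup X], IsKnownSimple' X) {M : Type} [Group M]
    {n r : ℕ} (hn : Nat.card M = n) {l : List (ℕ × ℕ)} (hv : valid l n = true) (hnp : ¬ n.Prime)
    (hr : r.Prime) (hr2 : ¬ r ^ 2 ∣ n) (hc : Self r M) {bad : List ℕ} (hchk : chkAll n l r bad = true)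
    {G : Type u} [Group G] [Finite G] (hs : IsSimpleGroup G) (hsp : IsSporadicGroup G) (e : G ≃* M)
    {p : ℕ} (hp : p.Prime) (hb : p ∉ bad) : Idx G p := by
  have hM : IsSimpleGroup M := (MulEquiv.isSimpleGroup_congr e).1 hs
  have hfin : Finite M := Finite.of_equiv _ e.toEquiv
  have hGn : Nat.card G = n := by rw [← hn]; exact Nat.card_congr e.toEquiv
  by_cases hpr : p = r
  · subst hpr
    exact idx_self (not_comm (by rw [hGn]; exact hnp)) hsp hr (by rw [hGn]; exact hr2)
  · exact (Idx.of_good hp (good_of_cent T hS hn hv hr hc hchk hp hpr hb)).congr e.symm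

end Cfsg.Agent.H408.SporEng
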