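import Mathlib
import Cfsg.Agent.H408.Out
import Cfsg.Prelude.Def_Classification2
import Cfsg.Prelude.Def_LieTypeChar

/-!
# Assembly of S3608 from the rows (helper408)

* `Same fam` : for a group of the family `fam p` the statement for the prime `p`; `Cross fam` : for the other primes;
* `Rows` : all rows; `main` : the theorem for all known simple groups.
-/

set_option autoImplicit false

namespace Cfsg.Agent.H408.PPMain

open Cfsg Cfsg.Agent.H408.Idx8

universe u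

/-- own characteristic -/
def Same (fam : ℕ → ∀ (G : Type u) [Group G], Prop) : Prop :=
  ∀ (p : ℕ), p.Prime → ∀ (G : Type u) [Group G] [Finite G], IsSimpleGroup G → fam p G → Idx G p

/-- other characteristics -/
def Cross (fam : ℕ → ∀ (G : Type u) [Group G], Prop) : Prop :=
  ∀ (p r : ℕ), p.Prime → p ≠ r → ∀ (G : Type u) [Group G] [Finite G], IsSimpleGroup G → fam r G → Idx G p

/-- own characteristic, all families of Lie type -/
structure SameRows : Prop where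
  psl : Same.{u} fun p G _ => IsPSLChar p G
  psp : Same.{u} fun p G _ => IsPSpChar p G
  psu : Same.{u} fun p G _ => IsPSUChar p G
  pOmegaOdd : Same.{u} fun p G _ => IsPOmegaOddChar p G
  pOmegaPlus : Same.{u} fun p G _ => IsPOmegaPlusChar p G
  pOmegaMinus : Same.{u} fun p G _ => IsPOmegaMinusChar p G
  excChev : Same.{u} fun p G _ => IsExceptionalChevChar p G
  twisted : Same.{u} fun p G _ => IsTwistedE6D4Char p G
  suzuki : Same.{u} fun p G _ => p = 2 ∧ Lie.IsoSuzuki G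
  ff : Same.{u} fun p G _ => p = 2 ∧ Lie.Iso2F4 G
  ree : Same.{u} fun p G _ => p = 3 ∧ Lie.IsoRee G

/-- other characteristics, all families of Lie type -/
structure CrossRows : Prop where
  psl : Cross.{u} fun p G _ => IsPSLChar p G
  psp : Cross.{u} fun p G _ => IsPSpChar p G
  psu : Cross.{u} fun p G _ => IsPSUChar p G
  pOmegaOdd : Cross.{u} fun p G _ => IsPOmegaOddChar p G
  pOmegaPlus : Cross.{u} fun p G _ => IsPOmegaPlusChar p G
  pOmegaMinus : Cross.{u} fun p G _ => IsPOmegaMinusChar p G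
  exceptional : Cross.{u} fun r G _ => IsExceptionalChevChar r G ∨ IsTwistedE6D4Char r G ∨
    (r = 2 ∧ Lie.IsoSuzuki G) ∨ (r = 2 ∧ Lie.Iso2F4 G) ∨ (r = 3 ∧ Lie.IsoRee G)

/-- the groups of Lie type in their own characteristic -/
theorem SameRows.lie (S : SameRows.{u}) : Same.{u} fun p G _ => IsLieTypeChar p G := by
  intro p hp G _ _ hs h
  rcases h with h | h | h | h | h | h | h | h | h | h | h
  · exact S.psl p hp G hs h
  · exact S.psp p hp G hs h
  · exact S.psu p hp G hs h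
  · exact S.pOmegaOdd p hp G hs h
  · exact S.pOmegaPlus p hp G hs h
  · exact S.pOmegaMinus p hp G hs h
  · exact S.excChev p hp G hs h
  · exact S.twisted p hp G hs h
  · exact S.suzuki p hp G hs h
  · exact S.ff p hp G hs h
  · exact S.ree p hp G hs h

/-- the groups of Lie type in the other characteristics -/
theorem CrossRows.lie (C : CrossRows.{u}) : Cross.{u} fun p G _ => IsLieTypeChar p G := by
  intro p r hp hpr G _ _ hs h
  rcases h with h | h | h | h | h | h | h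
  · exact C.psl p r hp hpr G hs h
  · exact C.psp p r hp hpr G hs h
  · exact C.psu p r hp hpr G hs h
  · exact C.pOmegaOdd p r hp hpr G hs h
  · exact C.pOmegaPlus p r hp hpr G hs h
  · exact C.pOmegaMinus p r hp hpr G hs h
  · exact C.exceptional p r hp hpr G hs h

/-- all rows -/
structure Rows : Prop where
  same : SameRows.{u}
  cross : CrossRows.{u}
  alternating : ∀ (p : ℕ), p.Prime → ∀ (G : Type u) [Group G] [Finite G], IsSimpleGroup G → IsAlternating G → Idx G p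
  sporadic : ∀ (p : ℕ), p.Prime → ∀ (G : Type u) [Group G] [Finite G], IsSimpleGroup G → IsSporadicGroup G → Idx G p
  tits : ∀ (p : ℕ), p.Prime → ∀ (G : Type u) [Group G] [Finite G], IsSimpleGroup G → Lie.IsoTits G → Idx G p

/-- a known simple group is of Lie type in some characteristic or one of the others -/
theorem lie_or {G : Type u} [Group G] (h : IsKnownSimple' G) :
    IsPrimeCyclic G ∨ IsAlternating G ∨ (∃ r, IsLieTypeChar r G) ∨ Lie.IsoTits G ∨ IsSporadicGroup G := by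
  rcases h with h | h | h | h | h | h | h | h | h | h
  · exact Or.inl h
  · exact Or.inr (Or.inl h)
  · obtain ⟨F, iF, iFin, n, h1, h2, h3⟩ := h
    obtain ⟨r, hr⟩ := CharP.exists F
    exact Or.inr (Or.inr (Or.inl ⟨r, Or.inl ⟨F, iF, iFin, hr, n, h1, h2, h3⟩⟩))
  · obtain ⟨F, iF, iFin, n, h1, h2, h3⟩ := h
    obtain ⟨r, hr⟩ := CharP.exists F
    exact Or.inr (Or.inr (Or.inl ⟨r, Or.inr (Or.inl ⟨F, iF, iFin, hr, n, h1, h2, h3⟩)⟩))
  · obtain ⟨F, iF, iFin, n, q, h0, h1, h2, h3⟩ := h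
    obtain ⟨r, hr⟩ := CharP.exists F
    exact Or.inr (Or.inr (Or.inl ⟨r, Or.inr (Or.inr (Or.inl ⟨F, iF, iFin, hr, n, q, h0, h1, h2, h3⟩))⟩))
  · obtain ⟨F, iF, iFin, n, h1, h2, h3⟩ := h
    obtain ⟨r, hr⟩ := CharP.exists F
    exact Or.inr (Or.inr (Or.inl ⟨r, Or.inr (Or.inr (Or.inr (Or.inl ⟨F, iF, iFin, hr, n, h1, h2, h3⟩)))⟩))
  · obtain ⟨F, iF, iFin, n, h1, h2⟩ := h
    obtain ⟨r, hr⟩ := CharP.exists F
    exact Or.inr (Or.inr (Or.inl ⟨r, Or.inr (Or.inr (Or.inr (Or.inr (Or.inl ⟨F, iF, iFin, hr, n, h1, h2⟩))))⟩))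
  · obtain ⟨F, iF, iFin, n, a, b, h1, h2, h3⟩ := h
    obtain ⟨r, hr⟩ := CharP.exists F
    exact Or.inr (Or.inr (Or.inl ⟨r, Or.inr (Or.inr (Or.inr (Or.inr (Or.inr (Or.inl
      ⟨F, iF, iFin, hr, n, a, b, h1, h2, h3⟩)))))⟩))
  · have key : (∃ (r : ℕ) (F : Type) (_ : Field F) (_ : Fintype F) (_ : CharP F r),
        (3 ≤ Fintype.card F ∧ Nonempty (G ≃* Lie.chevG2.group F)) ∨ Nonempty (G ≃* Lie.chevF4.group F) ∨
          Nonempty (G ≃* Lie.chevE6.group F) ∨ Nonempty (G ≃* Lie.chevE7.group F) ∨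
          Nonempty (G ≃* Lie.chevE8.group F)) → ∃ r, IsLieTypeChar r G := by
      rintro ⟨r, F, iF, iFin, hr, h⟩
      exact ⟨r, Or.inr (Or.inr (Or.inr (Or.inr (Or.inr (Or.inr (Or.inl ⟨F, iF, iFin, hr, h⟩))))))⟩
    rcases h with h | h | h | h | h | h | h | h | h | h | h
    · obtain ⟨F, iF, iFin, h1, h2⟩ := h
      obtain ⟨r, hr⟩ := CharP.exists F
      exact Or.inr (Or.inr (Or.inl (key ⟨r, F, iF, iFin, hr, Or.inl ⟨h1, h2⟩⟩)))
    · obtain ⟨F, iF, iFin, h2⟩ := h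
      obtain ⟨r, hr⟩ := CharP.exists F
      exact Or.inr (Or.inr (Or.inl (key ⟨r, F, iF, iFin, hr, Or.inr (Or.inl h2)⟩)))
    · obtain ⟨F, iF, iFin, h2⟩ := h
      obtain ⟨r, hr⟩ := CharP.exists F
      exact Or.inr (Or.inr (Or.inl (key ⟨r, F, iF, iFin, hr, Or.inr (Or.inr (Or.inl h2))⟩)))
    · obtain ⟨F, iF, iFin, h2⟩ := h
      obtain ⟨r, hr⟩ := CharP.exists F
      exact Or.inr (Or.inr (Or.inl (key ⟨r, F, iF, iFin, hr, Or.inr (Or.inr (Or.inr (Or.inl h2)))⟩)))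
    · obtain ⟨F, iF, iFin, h2⟩ := h
      obtain ⟨r, hr⟩ := CharP.exists F
      exact Or.inr (Or.inr (Or.inl (key ⟨r, F, iF, iFin, hr, Or.inr (Or.inr (Or.inr (Or.inr h2)))⟩)))
    · obtain ⟨F, iF, iFin, q, h1, h2, h3⟩ := h
      obtain ⟨r, hr⟩ := CharP.exists F
      exact Or.inr (Or.inr (Or.inl ⟨r, Or.inr (Or.inr (Or.inr (Or.inr (Or.inr (Or.inr (Or.inr (Or.inl
        ⟨F, iF, iFin, hr, q, h1, Or.inl ⟨h2, h3⟩⟩)))))))⟩))
    · obtain ⟨F, iF, iFin, q, h1, h2, h3⟩ := h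
      obtain ⟨r, hr⟩ := CharP.exists F
      exact Or.inr (Or.inr (Or.inl ⟨r, Or.inr (Or.inr (Or.inr (Or.inr (Or.inr (Or.inr (Or.inr (Or.inl
        ⟨F, iF, iFin, hr, q, h1, Or.inr ⟨h2, h3⟩⟩)))))))⟩))
    · exact Or.inr (Or.inr (Or.inl ⟨2, Or.inr (Or.inr (Or.inr (Or.inr (Or.inr (Or.inr (Or.inr (Or.inr (Or.inl
        ⟨rfl, h⟩))))))))⟩))
    · exact Or.inr (Or.inr (Or.inl ⟨3, Or.inr (Or.inr (Or.inr (Or.inr (Or.inr (Or.inr (Or.inr (Or.inr (Or.inr
        (Or.inr ⟨rfl, h⟩)))))))))⟩))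
    · exact Or.inr (Or.inr (Or.inl ⟨2, Or.inr (Or.inr (Or.inr (Or.inr (Or.inr (Or.inr (Or.inr (Or.inr (Or.inr
        (Or.inl ⟨rfl, h⟩)))))))))⟩))
    · exact Or.inr (Or.inr (Or.inr (Or.inl h)))
  · exact Or.inr (Or.inr (Or.inr (Or.inr h)))

/-- **S3608 for the known simple groups.** -/
theorem main (R : Rows.{u}) {G : Type u} [Group G] [Finite G] (hs : IsSimpleGroup G) (hna : ¬ IsMulCommutative G)
    (hK : IsKnownSimple' G) (H : Subgroup G) (p k : ℕ) (hp : p.Prime) (hk : 1 ≤ k) (hH : H.index = p ^ k) :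
    Out G p k := by
  rcases lie_or hK with h | h | ⟨r, h⟩ | h | h
  · exfalso
    have : Fact (Nat.card G).Prime := ⟨h⟩
    have hc : IsCyclic G := isCyclic_of_prime_card rfl
    exact hna ⟨⟨fun a b => by
      obtain ⟨g, hg⟩ := hc.exists_generator
      obtain ⟨m, rfl⟩ := hg a
      obtain ⟨n, rfl⟩ := hg b
      exact (Commute.refl g).zpow_zpow m n⟩⟩
  · exact R.alternating p hp G hs h H k hk hH
  · by_cases hpr : p = r
    · subst hpr
      exact R.same.lie p hp G hs h H k hk hH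
    · exact R.cross.lie p r hp hpr G hs h H k hk hH
  · exact R.tits p hp G hs h H k hk hH
  · exact R.sporadic p hp G hs h H k hk hH

end Cfsg.Agent.H408.PPMain
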