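import Mathlib
import Cfsg.Agent.H408.RgdK
import Cfsg.Agent.Nodes.WittInst
import Cfsg.Agent.KFacts.Unit.Emb
import Cfsg.Agent.LieClassical.HermCount

/-!
# The data of Lemma K in `SU N F q` (helper408)

* `exists_wframe` : a Witt frame whose planes are coordinate planes, with a description of the anisotropic part;
* `TS W` : the torus of a Witt frame; `data` : the data of Lemma K for a frame;
* `not_dvd_index` : transvections have centralisers of index prime to `p`.
-/

set_option autoImplicit false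

namespace Cfsg.Agent.H408.PsuBase

open Cfsg Cfsg.Agent.LieClassical.HermBasic Cfsg.Agent.LieClassical.HermGen
  Cfsg.Agent.LieClassical.HermSiegel
open Cfsg.Agent.ChevalleyStructure.CoxeterGeom Cfsg.Agent.Tits.Roots
open Cfsg.Agent.Nodes.Comb Cfsg.Agent.Nodes.Reps Cfsg.Agent.Nodes.WittRoot Cfsg.Agent.Nodes.BNOf
  Cfsg.Agent.Nodes.Bruhat
open Cfsg.Agent.Nodes.RGDLib Cfsg.Agent.Nodes.WittAll Cfsg.Agent.Nodes.WittU Cfsg.Agent.Nodes.WittRGD
open Cfsg.Agent.TitsThree Cfsg.Agent.TitsThree.Siegel Cfsg.Agent.TitsThree.SiegelGen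
  Cfsg.Agent.TitsThree.WittFrame Cfsg.Agent.TitsThree.WBridge Cfsg.Agent.TitsThree.WittWeyl
  Cfsg.Agent.TitsThree.FrameCN Cfsg.Agent.TitsThree.KSideU Cfsg.Agent.TitsThree.KSideUDesc
open Cfsg.Agent.H408.Core Cfsg.Agent.H408.LemmaK Cfsg.Agent.H408.RgdK

variable {F : Type*} [Field F] [Fintype F] {q N : ℕ} (hF : Fintype.card F = q ^ 2) {m : ℕ}

/-- The explicit frame. -/
theorem exists_wframe' (hN : N = 2 * m ∨ N = 2 * m + 1) : ∃ W : WFrame (PU hF N) m, Blocks hF W ∧
    ∀ v ∈ W.V0, ∀ j : Fin N, (j : ℕ) < 2 * m → v j = 0 := by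
  classical
  have hN2 : 2 * m ≤ N := by omega
  obtain ⟨a, ha0, ha⟩ := exists_norm_eq_ne hF (c := (-1 : F))
    (by rw [neg_pow_q hF, one_pow]) (neg_ne_zero.2 one_ne_zero)
  obtain ⟨b, hb⟩ := exists_trace_eq hF (c := (-1 : F)) (by rw [neg_pow_q hF, one_pow])
  let s0 : Fin m → Fin N → F := fun i => Pi.single (UFrame.i0 hN2 i) 1
  let s1 : Fin m → Fin N → F := fun i => Pi.single (UFrame.i1 hN2 i) 1
  have h00 : ∀ i j, hermForm N F q (s0 i) (s0 j) = if i = j then 1 else 0 := by
    intro i j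
    rw [UFrame.herm_single_single hF]
    simp only [UFrame.i0_inj hN2]
  have h11 : ∀ i j, hermForm N F q (s1 i) (s1 j) = if i = j then 1 else 0 := by
    intro i j
    rw [UFrame.herm_single_single hF]
    simp only [UFrame.i1_inj hN2]
  have h01 : ∀ i j, hermForm N F q (s0 i) (s1 j) = 0 := by
    intro i j
    rw [UFrame.herm_single_single hF, if_neg (UFrame.i0_ne_i1 hN2 i j)]
  have h10 : ∀ i j, hermForm N F q (s1 i) (s0 j) = 0 := by
    intro i j
    rw [UFrame.herm_single_single hF, if_neg (UFrame.i0_ne_i1 hN2 j i).symm]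
  let e : Fin m → Fin N → F := fun i => s0 i + a • s1 i
  let f : Fin m → Fin N → F := fun i => s0 i + b • e i
  have hee : ∀ i j, hermForm N F q (e i) (e j) = 0 := by
    intro i j
    simp only [e, herm_add_left, herm_add_right hF, herm_smul_left, herm_smul_right, h00, h11,
      h01, h10]
    split_ifs
    · linear_combination ha
    · ring
  have hes : ∀ i j, hermForm N F q (e i) (s0 j) = if i = j then 1 else 0 := by
    intro i j
    simp only [e, herm_add_left, herm_smul_left, h00, h10, mul_zero, add_zero]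
  have hse : ∀ i j, hermForm N F q (s0 i) (e j) = if i = j then 1 else 0 := by
    intro i j
    simp only [e, herm_add_right hF, herm_smul_right, h00, h01, mul_zero, add_zero]
  have hef : ∀ i j, hermForm N F q (e i) (f j) = if i = j then 1 else 0 := by
    intro i j
    simp only [f, herm_add_right hF, herm_smul_right, hes, hee, mul_zero, add_zero]
  have hfe : ∀ i j, hermForm N F q (f i) (e j) = if i = j then 1 else 0 := by
    intro i j
    simp only [f, herm_add_left, herm_smul_left, hse, hee, mul_zero, add_zero]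
  have hff : ∀ i j, hermForm N F q (f i) (f j) = 0 := by
    intro i j
    simp only [f, herm_add_left, herm_add_right hF, herm_smul_left, herm_smul_right, h00, hes,
      hse, hee]
    split_ifs
    · linear_combination hb
    · ring
  -- `V0` = vectors supported on the coordinates `≥ 2m`
  let V0 : Submodule F (Fin N → F) :=
    { carrier := {v | ∀ j : Fin N, (j : ℕ) < 2 * m → v j = 0}
      add_mem' := fun ha hb j hj => by rw [Pi.add_apply, ha j hj, hb j hj, add_zero]
      zero_mem' := fun _ _ => rfl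
      smul_mem' := fun c v hv j hj => by rw [Pi.smul_apply, hv j hj, smul_zero] }
  have hVs0 : ∀ w ∈ V0, ∀ i, hermForm N F q w (s0 i) = 0 := by
    intro w hw i
    rw [herm_single_right hF, hw _ (by simp [UFrame.i0]), zero_mul]
  have hVs1 : ∀ w ∈ V0, ∀ i, hermForm N F q w (s1 i) = 0 := by
    intro w hw i
    rw [herm_single_right hF, hw _ (by simp [UFrame.i1]; omega), zero_mul]
  have hVe : ∀ w ∈ V0, ∀ i, hermForm N F q w (e i) = 0 := by
    intro w hw i
    simp only [e, herm_add_right hF, herm_smul_right, hVs0 w hw, hVs1 w hw, mul_zero, add_zero]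
  have hVf : ∀ w ∈ V0, ∀ i, hermForm N F q w (f i) = 0 := by
    intro w hw i
    simp only [f, herm_add_right hF, herm_smul_right, hVs0 w hw, hVe w hw, mul_zero, add_zero]
  refine ⟨⟨e, f, V0, hee, hff, hef, fun i j => by rw [HU_ε]; exact hfe i j,
    fun i => (sing_iff hF).2 (hee i i), fun i => (sing_iff hF).2 (hff i i), hVe, hVf, ?_, ?_⟩, ?_, fun v hv => hv⟩
  · intro w hw hs
    rw [sing_iff] at hs
    rcases hN with hN | hN
    · funext j
      exact hw j (by have := j.2; omega)
    · -- one dimensional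
      have hw' : w = w ⟨2 * m, by omega⟩ • Pi.single ⟨2 * m, by omega⟩ (1 : F) := by
        funext j
        by_cases hj : (j : ℕ) < 2 * m
        · rw [hw j hj, Pi.smul_apply, Pi.single_eq_of_ne, smul_zero]
          simp [Fin.ext_iff]; omega
        · have hj2 : j = ⟨2 * m, by omega⟩ := Fin.ext (by have := j.2; simp; omega)
          rw [hj2, Pi.smul_apply, Pi.single_eq_same, smul_eq_mul, mul_one]
      have h1 : hermForm N F q w w = w ⟨2 * m, by omega⟩ * (w ⟨2 * m, by omega⟩) ^ q := by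
        conv_lhs => rw [hw']
        rw [herm_smul_left, herm_smul_right, UFrame.herm_single_single hF, if_pos rfl, mul_one]
      rw [h1, norm_eq_zero hF] at hs
      rw [hw', hs, zero_smul]
  · intro v
    refine ⟨fun i => v (UFrame.i1 hN2 i) * a⁻¹ - b * (v (UFrame.i0 hN2 i) - v (UFrame.i1 hN2 i) * a⁻¹),
      fun i => v (UFrame.i0 hN2 i) - v (UFrame.i1 hN2 i) * a⁻¹,
      fun j => if (j : ℕ) < 2 * m then 0 else v j, fun j hj => if_pos hj, ?_⟩
    funext j
    have hs0 : ∀ (i : Fin m), s0 i j = if (j : ℕ) = 2 * i then 1 else 0 := by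
      intro i
      simp only [s0, Pi.single_apply, UFrame.i0, Fin.ext_iff]
    have hs1 : ∀ (i : Fin m), s1 i j = if (j : ℕ) = 2 * i + 1 then 1 else 0 := by
      intro i
      simp only [s1, Pi.single_apply, UFrame.i1, Fin.ext_iff]
    simp only [Pi.add_apply, Finset.sum_apply, Pi.smul_apply, smul_eq_mul, e, f]
    by_cases hj : (j : ℕ) < 2 * m
    · rw [if_pos hj, add_zero, ← Finset.sum_add_distrib, Finset.sum_eq_single ⟨(j : ℕ) / 2, by omega⟩]
      · rw [hs0, hs1]
        rcases Nat.even_or_odd' (j : ℕ) with ⟨k, hk | hk⟩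
        · have h1 : (j : ℕ) / 2 = k := by omega
          have h2 : UFrame.i0 hN2 (⟨(j : ℕ) / 2, by omega⟩ : Fin m) = j := by
            simp only [UFrame.i0, Fin.ext_iff]; omega
          rw [if_pos (by simp; omega), if_neg (by simp; omega), h2]
          ring
        · have h2 : UFrame.i1 hN2 (⟨(j : ℕ) / 2, by omega⟩ : Fin m) = j := by
            simp only [UFrame.i1, Fin.ext_iff]; omega
          rw [if_neg (by simp; omega), if_pos (by simp; omega), h2]
          field_simp
          ring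
      · intro i _ hi
        have h1 : (i : ℕ) ≠ (j : ℕ) / 2 := fun h => hi (Fin.ext h)
        rw [hs0, hs1, if_neg (by omega), if_neg (by omega)]
        ring
      · intro h; exact absurd (Finset.mem_univ _) h
    · rw [if_neg hj, Finset.sum_eq_zero, Finset.sum_eq_zero]
      · ring
      · intro i _
        rw [hs0, hs1, if_neg (by omega), if_neg (by omega)]; ring
      · intro i _
        rw [hs0, hs1, if_neg (by omega), if_neg (by omega)]; ring
  · intro i j h1 h2
    have hs0 : s0 i j = 0 := by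
      simp only [s0, Pi.single_apply, UFrame.i0, Fin.ext_iff, if_neg h1]
    have hs1 : s1 i j = 0 := by
      simp only [s1, Pi.single_apply, UFrame.i1, Fin.ext_iff, if_neg h2]
    constructor
    · show s0 i j + a • s1 i j = 0
      rw [hs0, hs1]; simp
    · show s0 i j + b • (s0 i j + a • s1 i j) = 0
      rw [hs0, hs1]; simp

/-- `SU` as a group modelled on a frame. -/
noncomputable def model (hN : 3 ≤ N) (W : WFrame (PU hF N) m) : Model (toFrame W) (SU N F q) where
  I := IU F q N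
  φ := (ofRange F q N).toMonoidHom
  hX := X_mem hF W
  hZ := Z_mem hF W
  ker v g h := by
    have h1 : g = 1 := (ofRange F q N).injective (by rw [map_one]; exact h)
    subst h1
    exact ⟨1, by rw [one_smul]; rfl⟩
  gen l L h1 h2 := by
    have hmem : ∀ g : IU F q N, ofRange F q N g ∈ L → g.1 ∈ L.map (toLin F q N) := fun g hg =>
      ⟨ofRange F q N g, hg, toLin_ofRange g⟩
    have hC : W.Contains (L.map (toLin F q N)) := contains_C W l
      (fun i j hij t => ⟨hmem ⟨_, X_mem hF W _ _ t⟩ (h1 i j hij t).1,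
        hmem ⟨_, X_mem hF W _ _ t⟩ (h1 i j hij t).2⟩)
      (fun p => ⟨hmem ⟨_, Z_mem hF W _ p⟩ (h2 p).1, hmem ⟨_, Z_mem hF W _ p⟩ (h2 p).2⟩)
      (exists_adm_ne hF W)
    exact eq_top_of_sie hF hN L fun u w c huu huw hok => hC.all W ((sing_iff hF).2 huu) huu huw hok

/-- The torus of a frame. -/
def TS (W : WFrame (PU hF N) m) : Subgroup (SU N F q) where
  carrier := {g | ∀ i, (∃ a : F, act g (W.e i) = a • W.e i) ∧ ∃ a : F, act g (W.f i) = a • W.f i}
  one_mem' i := ⟨⟨1, by rw [act_one, one_smul]⟩, ⟨1, by rw [act_one, one_smul]⟩⟩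
  mul_mem' {g h} hg hh i := by
    obtain ⟨⟨a, ha⟩, b, hb⟩ := hg i
    obtain ⟨⟨c, hc⟩, d, hd⟩ := hh i
    exact ⟨⟨c * a, by rw [act_mul, hc, act_smul, ha, smul_smul]⟩,
      ⟨d * b, by rw [act_mul, hd, act_smul, hb, smul_smul]⟩⟩
  inv_mem' {g} hg i := by
    have key : ∀ v : Fin N → F, (∃ a : F, act g v = a • v) → ∃ a : F, act g⁻¹ v = a • v := by
      rintro v ⟨a, ha⟩
      by_cases h0 : a = 0
      · rw [h0, zero_smul] at ha
        have hv : v = 0 := by
          have := act_inv_act g v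
          rw [ha, act_zero] at this
          exact this.symm
        exact ⟨0, by rw [hv, act_zero, smul_zero]⟩
      · refine ⟨a⁻¹, ?_⟩
        have := act_inv_act g v
        rw [ha, act_smul] at this
        rw [← this, smul_smul, this, inv_mul_cancel₀ h0, one_smul]
    exact ⟨key _ (hg i).1, key _ (hg i).2⟩

theorem mem_TS {W : WFrame (PU hF N) m} {g : SU N F q} : g ∈ TS hF W ↔
    ∀ i, (∃ a : F, act g (W.e i) = a • W.e i) ∧ ∃ a : F, act g (W.f i) = a • W.f i := Iff.rfl

/-- elements of the torus are central modulo `U` in `B` -/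
theorem comm_mem {I W Y : Type*} [Fintype I] [DecidableEq I] [Group W] [Group Y] {M : CoxeterMatrix I}
    {cs : CoxeterSystem M W} {A : I → I → ℤ} {h : IsCartan M A} {p : ℕ} {T : Subgroup Y} {n : I → Y}
    {X : (I → ℤ) → Subgroup Y} (R : RGD cs h p T n X) {y : Y} (hy : y ∈ T) (hST : ∀ t ∈ T, t * y = y * t) :
    ∀ m ∈ RGD.B cs h T X, m * y * m⁻¹ * y⁻¹ ∈ RGD.Sup X (RGD.Pos cs h) := by
  intro m hm
  obtain ⟨t, ht, u, hu, rfl⟩ := R.mem_B.1 hm
  have h1 : y * u⁻¹ * y⁻¹ ∈ RGD.Sup X (RGD.Pos cs h) :=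
    (Subgroup.mem_normalizer_iff.1 (R.T_le_normalizer_U hy) _).1 (inv_mem hu)
  have h2 : t * (u * (y * u⁻¹ * y⁻¹)) * t⁻¹ ∈ RGD.Sup X (RGD.Pos cs h) :=
    (Subgroup.mem_normalizer_iff.1 (R.T_le_normalizer_U ht) _).1 (mul_mem hu h1)
  have e : t * u * y * (t * u)⁻¹ * y⁻¹ = t * (u * (y * u⁻¹ * y⁻¹)) * t⁻¹ := by
    have h3 : t⁻¹ * y = y * t⁻¹ := hST _ (inv_mem ht)
    calc t * u * y * (t * u)⁻¹ * y⁻¹ = t * (u * (y * u⁻¹ * y⁻¹)) * (y * t⁻¹) * y⁻¹ := by group
      _ = t * (u * (y * u⁻¹ * y⁻¹)) * (t⁻¹ * y) * y⁻¹ := by rw [h3]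
      _ = _ := by group
  rw [e]
  exact h2

/-- **The data of Lemma K for a frame.** -/
theorem data' {p : ℕ} [Fact p.Prime] [CharP F p] (hN : 3 ≤ N) (hm : 0 < m) (W : WFrame (PU hF N) m) :
    ∃ M Q : Subgroup (SU N F q), ¬ p ∣ M.index ∧ Q ≤ M ∧ M ≤ Subgroup.normalizer (Q : Set (SU N F q)) ∧
      IsPGroup p Q ∧ TS hF W ≤ M ∧ ¬ p ∣ Nat.card (TS hF W) ∧
      ∀ y ∈ TS hF W, (∀ t ∈ TS hF W, t * y = y * t) → ∀ g ∈ M, g * y * g⁻¹ * y⁻¹ ∈ Q := by
  obtain ⟨p0, hp0, -⟩ := exists_adm hF W
  have hA := AmbT.of_amb (amb_U hF W) p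
  have R := rgdC_model (model hF hN W) hA hp0 (CoxeterMatrix.B m).toCoxeterSystem
  have hfin := Cfsg.Agent.Nodes.TypeC.finite_W (CoxeterMatrix.B m).toCoxeterSystem
  have hT : Cfsg.Agent.Nodes.WittModel.T (model hF hN W) = TS hF W := by
    ext g
    constructor
    · rintro ⟨x, hx, rfl⟩
      have hx' := Subgroup.mem_subgroupOf.1 hx
      have h1 := hx'.2
      intro i
      have e : ∀ v, act (ofRange F q N x) v = x.1 v := fun v =>
        DFunLike.congr_fun (toLin_ofRange (F := F) (q := q) (N := N) x) v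
      constructor
      · obtain ⟨l, -, hl⟩ := h1 (i, true)
        exact ⟨l, (e _).trans hl⟩
      · obtain ⟨l, -, hl⟩ := h1 (i, false)
        exact ⟨l, (e _).trans hl⟩
    · intro hg
      refine ⟨(ofRange F q N).symm g, ?_, (ofRange F q N).apply_symm_apply g⟩
      refine Subgroup.mem_subgroupOf.2 ⟨((ofRange F q N).symm g).2, ?_⟩
      have e : ∀ v, ((ofRange F q N).symm g).1 v = act g v := fun v => by
        rw [← toLin_ofRange, MulEquiv.apply_symm_apply]; rfl
      have key : ∀ (v : Fin N → F), v ≠ 0 → (∃ a : F, act g v = a • v) →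
          ∃ a : F, a ≠ 0 ∧ ((ofRange F q N).symm g).1 v = a • v := by
        rintro v hv ⟨a, ha⟩
        refine ⟨a, ?_, by rw [e, ha]⟩
        rintro rfl
        rw [zero_smul] at ha
        apply hv
        have := act_inv_act g v
        rw [ha, act_zero] at this
        exact this.symm
      rintro ⟨i, x⟩
      cases x
      · refine key _ ?_ (hg i).2
        intro h0
        have h1 := W.ef i i
        have h2 : W.f i = 0 := h0
        rw [h2, if_pos rfl, HForm.zero_right] at h1
        exact zero_ne_one h1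
      · refine key _ ?_ (hg i).1
        intro h0
        have h1 := W.ef i i
        have h2 : W.e i = 0 := h0
        rw [h2, if_pos rfl, HForm.zero_left] at h1
        exact zero_ne_one h1
  have hG : GG (CoxeterMatrix.B m).toCoxeterSystem (Cfsg.Agent.Nodes.TypeC.isCartan m) (Cfsg.Agent.Nodes.WittModel.T (model hF hN W))
      (Cfsg.Agent.Nodes.WittModel.X (model hF hN W)) = ⊤ := by
    rw [eq_top_iff, ← Cfsg.Agent.Nodes.WittModel.G1_eq_top (model hF hN W) hm (CoxeterMatrix.B m).toCoxeterSystem]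
    exact le_sup_right
  obtain ⟨h1, h2, h3, h4, h5, h6⟩ := rgd R hG
  refine ⟨_, _, h1, h2, h3, h4, hT ▸ h5, hT ▸ h6, ?_⟩
  intro y hy hyT
  exact comm_mem R (by rw [hT]; exact hy) (by rw [hT]; exact hyT)

/-- **The data of Lemma K for a frame.** -/
theorem data {p : ℕ} [Fact p.Prime] [CharP F p] (hN : 3 ≤ N) (hm : 0 < m) (W : WFrame (PU hF N) m) :
    ∃ M Q : Subgroup (SU N F q), ¬ p ∣ M.index ∧ Q ≤ M ∧ M ≤ Subgroup.normalizer (Q : Set (SU N F q)) ∧
      IsPGroup p Q ∧ TS hF W ≤ M ∧ ¬ p ∣ Nat.card (TS hF W) ∧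
      ∀ S ≤ TS hF W, (∀ t ∈ TS hF W, ∀ s ∈ S, t * s = s * t) → ∀ g ∈ M, ∀ y ∈ S, g * y * g⁻¹ ∈ Q ⊔ S := by
  obtain ⟨M, Q, h1, h2, h3, h4, h5, h6, h7⟩ := data' hF (p := p) hN hm W
  refine ⟨M, Q, h1, h2, h3, h4, h5, h6, fun S hS hST g hg y hy => ?_⟩
  have h8 := h7 y (hS hy) (fun t ht => hST t ht y hy) g hg
  have h9 : g * y * g⁻¹ * y⁻¹ * y ∈ Q ⊔ S := mul_mem (Subgroup.mem_sup_left h8) (Subgroup.mem_sup_right hy)
  rwa [inv_mul_cancel_right] at h9

/-! ### Transvections -/

/-- the action on the isotropic vectors -/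
@[reducible] def isoAct : MulAction (SU N F q) {v : Fin N → F // v ≠ 0 ∧ hermForm N F q v v = 0} where
  smul g v := ⟨act g v.1, fun h => v.2.1 ((act_eq_zero g).1 h), by rw [herm_act]; exact v.2.2⟩
  one_smul v := Subtype.ext (act_one _)
  mul_smul g h v := Subtype.ext (act_mul g h _)

include hF in
theorem not_dvd_card_iso {p : ℕ} [Fact p.Prime] [CharP F p] (hN : 2 ≤ N) :
    ¬ p ∣ Nat.card {v : Fin N → F // v ≠ 0 ∧ hermForm N F q v v = 0} := by
  classical
  have hp : p.Prime := Fact.out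
  have hpq : p ∣ q := by
    have h1 : p ∣ Fintype.card F := by
      rw [← CharP.cast_eq_zero_iff F p, ← Nat.card_eq_fintype_card]
      simp
    rw [hF] at h1
    exact hp.dvd_of_dvd_pow h1
  have h0 : Nat.card {v : Fin N → F // v ≠ 0 ∧ hermForm N F q v v = 0} + 1 =
      Nat.card {v : Fin N → F // hermForm N F q v v = 0} := by
    rw [Nat.card_eq_fintype_card, Nat.card_eq_fintype_card, Fintype.card_subtype, Fintype.card_subtype]
    have h1 : (Finset.univ.filter fun v : Fin N → F => hermForm N F q v v = 0) =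
        insert 0 (Finset.univ.filter fun v : Fin N → F => v ≠ 0 ∧ hermForm N F q v v = 0) := by
      ext v
      simp only [Finset.mem_filter, Finset.mem_univ, true_and, Finset.mem_insert]
      constructor
      · intro h
        by_cases hv : v = 0
        · exact Or.inl hv
        · exact Or.inr ⟨hv, h⟩
      · rintro (rfl | h)
        · exact herm_zero_left _
        · exact h.2
    rw [h1, Finset.card_insert_of_notMem (by simp)]
  have h2 := Cfsg.Agent.LieClassical.HermCount.card_isotropic hF N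
  rw [← h0, Nat.add_right_cancel_iff] at h2
  rw [h2]
  intro h3
  have hq2 := two_le hF
  have hN1 : p ∣ q ^ (N - 1) := dvd_pow hpq (by omega)
  have hN0 : p ∣ q ^ N := dvd_pow hpq (by omega)
  have hpos1 : 0 < q ^ (N - 1) := pow_pos (by omega) _
  have hpos0 : 0 < q ^ N := pow_pos (by omega) _
  have hadd : ∀ {x : ℕ}, p ∣ x → ¬ p ∣ x + 1 := fun {x} hx h =>
    hp.one_lt.ne' (Nat.dvd_one.1 ((Nat.dvd_add_right hx).1 h))
  have hsub : ∀ {x : ℕ}, 0 < x → p ∣ x → ¬ p ∣ x - 1 := fun {x} h0 hx h => by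
    have h5 : p ∣ x - 1 + 1 := by rwa [Nat.sub_add_cancel h0]
    exact hadd h h5
  split_ifs at h3
  · rcases (hp.dvd_mul).1 h3 with h | h
    · exact hsub hpos0 hN0 h
    · exact hadd hN1 h
  · rcases (hp.dvd_mul).1 h3 with h | h
    · exact hadd hN0 h
    · exact hsub hpos1 hN1 h

/-- **Transvections are central in a Sylow subgroup.** -/
theorem not_dvd_index {p : ℕ} [Fact p.Prime] [CharP F p] (hN : 3 ≤ N) {u : Fin N → F} (hu : u ≠ 0) {μ : F}
    (h : IsSiegel q u 0 μ) : ¬ p ∣ (Subgroup.centralizer ({siegel hF u 0 μ h} : Set (SU N F q))).index := by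
  classical
  let _ := isoAct (F := F) (q := q) (N := N)
  have hfin : Finite (SU N F q) := inferInstance
  obtain ⟨P⟩ : Nonempty (Sylow p (SU N F q)) := inferInstance
  have h1 : (MulAction.fixedPoints P {v : Fin N → F // v ≠ 0 ∧ hermForm N F q v v = 0}).Nonempty :=
    P.2.nonempty_fixed_point_of_prime_not_dvd_card _ (not_dvd_card_iso hF (by omega))
  obtain ⟨⟨e, he0, he⟩, hfix⟩ := h1
  obtain ⟨g, -, hg⟩ := exists_map_iso hF hN le_rfl (mem_coordSub_top e) (mem_coordSub_top u) he0 hu he h.iso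
  have h2 : ((g • P : Sylow p (SU N F q)) : Subgroup (SU N F q)) ≤
      Subgroup.centralizer ({siegel hF u 0 μ h} : Set (SU N F q)) := by
    intro x hx
    rw [Sylow.coe_subgroup_smul, Subgroup.mem_pointwise_smul_iff_inv_smul_mem] at hx
    have h3 : act (g⁻¹ * x * g) e = e := by
      have h4 := hfix ⟨_, hx⟩
      have h5 : act ((MulAut.conj g)⁻¹ x) e = e := congrArg Subtype.val h4
      have h6 : (MulAut.conj g)⁻¹ x = g⁻¹ * x * g := by simp
      rwa [h6] at h5
    have h7 : act x u = u := by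
      rw [← hg]
      rw [act_mul, act_mul, hg] at h3
      have h8 := congrArg (act g) h3
      rw [act_act_inv, hg] at h8
      rw [hg]; exact h8
    rw [Subgroup.mem_centralizer_singleton_iff]
    have h9 := conj_siegel hF h x
    have h10 : x * siegel hF u 0 μ h * x⁻¹ = siegel hF u 0 μ h := by
      rw [h9]
      exact siegel_congr hF _ _ h7 (act_zero x) rfl
    exact mul_inv_eq_iff_eq_mul.1 h10
  intro h3
  exact (g • P).not_dvd_index (h3.trans (Subgroup.index_dvd_of_le h2))

end Cfsg.Agent.H408.PsuBase
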