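import Mathlib
import Cfsg.Agent.H408.PsuCases
import Cfsg.Agent.KFacts.Unit.GLAct

/-!
# `PSU 4 F q`, `q ≥ 4`, has no subgroups of `p`-power index (helper408)

Two subgroups `SL₂(q²)` (the Levi complements of two stabilisers of totally isotropic planes) lie in every subgroup of
`p`-power index containing the torus; they generate a transvection.
-/

set_option autoImplicit false
set_option linter.unusedSimpArgs false

namespace Cfsg.Agent.H408.PsuFour

open Cfsg Cfsg.Agent.LieClassical.HermBasic Cfsg.Agent.LieClassical.HermGen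
  Cfsg.Agent.LieClassical.HermSiegel Cfsg.Agent.LieClassical.SUBasic
open Cfsg.Agent.Nodes.WittU
open Cfsg.Agent.TitsThree Cfsg.Agent.TitsThree.Siegel Cfsg.Agent.TitsThree.SiegelGen
  Cfsg.Agent.TitsThree.KSideU
open Cfsg.Agent.KFacts.Unit (Frm exists_GL)
open Cfsg.Agent.H408.Core Cfsg.Agent.H408.LemmaK Cfsg.Agent.H408.RgdK Cfsg.Agent.H408.PsuBase
  Cfsg.Agent.H408.PsuStep Matrix

/-- A simple quotient is good if every subgroup of `p`-power index contains a suitable element. -/
theorem good_of_key {G G' : Type*} [Group G] [Finite G] [Group G'] [IsSimpleGroup G'] {p : ℕ} (hp : p.Prime)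
    (φ : G →* G') (hφ : Function.Surjective φ)
    (key : ∀ (H : Subgroup G) (k : ℕ), H.index = p ^ k → ∃ z ∈ H,
      ¬ p ∣ (Subgroup.centralizer ({z} : Set G)).index ∧ φ z ≠ 1) : Good p G' := by
  intro H' k hH'
  let H : Subgroup G := H'.comap φ
  have hH : H.index = p ^ k := by rw [← hH']; exact Subgroup.index_comap_of_surjective _ hφ
  obtain ⟨z, hz, hzc, hφz⟩ := key H k hH
  have h1 := normalClosure_le hp hH hzc hz
  have h2 : (Subgroup.normalClosure ({z} : Set G)).map φ = ⊤ := by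
    have hn : ((Subgroup.normalClosure ({z} : Set G)).map φ).Normal := Subgroup.normalClosure_normal.map φ hφ
    rcases (inferInstance : IsSimpleGroup G').eq_bot_or_eq_top_of_normal _ hn with h | h
    · exfalso
      apply hφz
      have h3 : φ z ∈ (Subgroup.normalClosure ({z} : Set G)).map φ := ⟨z, Subgroup.subset_normalClosure rfl, rfl⟩
      rw [h] at h3
      exact h3
    · exact h
  rw [eq_top_iff]
  intro x _
  have h3 : x ∈ (Subgroup.normalClosure ({z} : Set G)).map φ := by rw [h2]; trivial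
  obtain ⟨y, hy, rfl⟩ := h3
  exact h1 hy

variable {F : Type*} [Field F] [Fintype F] {q : ℕ} (hF : Fintype.card F = q ^ 2)

section Frame

variable {e f : Fin 2 → (Fin 4 → F)} (E : Frm q e f)
  (hsp : ∀ v, v = ∑ i, hermForm 4 F q v (f i) • e i + ∑ i, hermForm 4 F q v (e i) • f i)

include hsp in
omit [Fintype F] in
theorem ext4 {g h : SU 4 F q} (he : ∀ i, act g (e i) = act h (e i)) (hf : ∀ i, act g (f i) = act h (f i)) :
    g = h := by
  apply ext_act
  intro v
  rw [hsp v]
  simp only [act_add, act_sum, act_smul, he, hf]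

/-- the dual matrix -/
def dual (M : Matrix.SpecialLinearGroup (Fin 2) F) : Matrix (Fin 2) (Fin 2) F :=
  (((M⁻¹ : Matrix.SpecialLinearGroup (Fin 2) F) : Matrix (Fin 2) (Fin 2) F)ᵀ).map (conj hF)

theorem map_conj_conj (B : Matrix (Fin 2) (Fin 2) F) : (B.map (conj hF)).map (conj hF) = B := by
  ext i j
  rw [Matrix.map_apply, Matrix.map_apply, conj_apply, conj_apply, pow_q_pow_q hF]

theorem dual_spec (M : Matrix.SpecialLinearGroup (Fin 2) F) :
    (M : Matrix (Fin 2) (Fin 2) F)ᵀ * (dual hF M).map (conj hF) = 1 := by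
  rw [dual, map_conj_conj, ← Matrix.transpose_mul, ← Matrix.SpecialLinearGroup.coe_mul, inv_mul_cancel,
    Matrix.SpecialLinearGroup.coe_one, Matrix.transpose_one]

theorem dual_det (M : Matrix.SpecialLinearGroup (Fin 2) F) :
    (M : Matrix (Fin 2) (Fin 2) F).det * (dual hF M).det = 1 := by
  have h1 := congrArg Matrix.det (dual_spec hF M)
  rw [Matrix.det_mul, Matrix.det_transpose, Matrix.det_one, M.2, one_mul] at h1
  rw [M.2, one_mul]
  have h2 : (conj hF) (dual hF M).det = 1 := by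
    rw [RingEquiv.map_det]
    exact h1
  rw [← map_one (conj hF)] at h2
  exact (conj hF).injective h2

theorem dual_mul (M M' : Matrix.SpecialLinearGroup (Fin 2) F) :
    dual hF (M * M') = dual hF M * dual hF M' := by
  rw [dual, dual, dual, _root_.mul_inv_rev, Matrix.SpecialLinearGroup.coe_mul, Matrix.transpose_mul, Matrix.map_mul]

/-- the element acting by `M` on `e` -/
noncomputable def kap (M : Matrix.SpecialLinearGroup (Fin 2) F) : SU 4 F q :=
  (exists_GL hF E (dual_spec hF M) (dual_det hF M)).choose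

theorem kap_e (M : Matrix.SpecialLinearGroup (Fin 2) F) (j : Fin 2) :
    act (kap hF E M) (e j) = ∑ i, (M : Matrix (Fin 2) (Fin 2) F) i j • e i :=
  (exists_GL hF E (dual_spec hF M) (dual_det hF M)).choose_spec.1 j

theorem kap_f (M : Matrix.SpecialLinearGroup (Fin 2) F) (j : Fin 2) :
    act (kap hF E M) (f j) = ∑ i, dual hF M i j • f i :=
  (exists_GL hF E (dual_spec hF M) (dual_det hF M)).choose_spec.2.1 j

omit [Fintype F] in
/-- composition of matrices on a family -/
theorem act_comp {e : Fin 2 → (Fin 4 → F)} {g h : SU 4 F q} {A B : Matrix (Fin 2) (Fin 2) F}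
    (hg : ∀ j, act g (e j) = ∑ i, A i j • e i) (hh : ∀ j, act h (e j) = ∑ i, B i j • e i) (j : Fin 2) :
    act (g * h) (e j) = ∑ i, (A * B) i j • e i := by
  rw [act_mul, hh, act_sum]
  simp only [act_smul, hg, Fin.sum_univ_two, Matrix.mul_apply]
  module

include hsp in
theorem kap_mul (M M' : Matrix.SpecialLinearGroup (Fin 2) F) : kap hF E (M * M') = kap hF E M * kap hF E M' := by
  refine ext4 hsp (fun j => ?_) fun j => ?_
  · rw [act_comp (kap_e hF E M) (kap_e hF E M'), kap_e, Matrix.SpecialLinearGroup.coe_mul]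
  · rw [act_comp (kap_f hF E M) (kap_f hF E M'), kap_f, dual_mul]

/-- the subgroup `SL₂(q²)` -/
noncomputable def kapHom : Matrix.SpecialLinearGroup (Fin 2) F →* SU 4 F q :=
  MonoidHom.mk' (kap hF E) (kap_mul hF E hsp)

/-- recognition of the elements of `SL₂(q²)` -/
theorem mem_range {x : SU 4 F q} {A B : Matrix (Fin 2) (Fin 2) F} (hA : ∀ j, act x (e j) = ∑ i, A i j • e i)
    (hB : ∀ j, act x (f j) = ∑ i, B i j • f i) (hdet : A.det = 1) : x ∈ (kapHom hF E hsp).range := by
  have h1 : Aᵀ * B.map (conj hF) = 1 := by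
    ext i j
    have h2 : hermForm 4 F q (act x (e i)) (act x (f j)) = if i = j then 1 else 0 := by
      rw [herm_act]; exact E.ef i j
    rw [hA, hB] at h2
    simp only [Fin.sum_univ_two, herm_add_left, herm_add_right hF, herm_smul_left, herm_smul_right, E.ef] at h2
    rw [Matrix.mul_apply, Matrix.one_apply, ← h2]
    simp only [Fin.sum_univ_two, Matrix.transpose_apply, Matrix.map_apply, conj_apply]
    norm_num
    ring
  let M : Matrix.SpecialLinearGroup (Fin 2) F := ⟨A, hdet⟩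
  have h3 : B = dual hF M := by
    have h4 : (M : Matrix (Fin 2) (Fin 2) F)ᵀ * B.map (conj hF) =
        (M : Matrix (Fin 2) (Fin 2) F)ᵀ * (dual hF M).map (conj hF) := by
      rw [dual_spec]; exact h1
    have h5 : IsUnit (M : Matrix (Fin 2) (Fin 2) F)ᵀ := by
      rw [Matrix.isUnit_iff_isUnit_det, Matrix.det_transpose]
      change IsUnit A.det
      rw [hdet]; exact isUnit_one
    have h6 := h5.mul_left_cancel h4
    have h7 := congrArg (fun X => X.map (conj hF)) h6
    simp only [map_conj_conj] at h7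
    exact h7
  refine ⟨M, ?_⟩
  change kap hF E M = x
  refine ext4 hsp (fun j => ?_) fun j => ?_
  · rw [kap_e, hA]
  · rw [kap_f, hB, h3]

include E hF in
/-- the element of the centre of the Levi complement -/
theorem exists_y {a : F} (ha : a ^ q = a) (h0 : a ≠ 0) :
    ∃ y : SU 4 F q, (∀ j, act y (e j) = a • e j) ∧ ∀ j, act y (f j) = a⁻¹ • f j := by
  have h1 : (a • (1 : Matrix (Fin 2) (Fin 2) F))ᵀ * (a⁻¹ • (1 : Matrix (Fin 2) (Fin 2) F)).map (conj hF) = 1 := by
    ext i j
    fin_cases i <;> fin_cases j <;>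
      simp [Matrix.mul_apply, Fin.sum_univ_two, conj_apply, inv_pow, ha, h0, zero_pow_q hF]
  obtain ⟨y, hy1, hy2, -⟩ := exists_GL hF E h1 (by
    rw [Matrix.det_smul, Matrix.det_smul, Matrix.det_one, Fintype.card_fin]
    field_simp)
  refine ⟨y, fun j => ?_, fun j => ?_⟩
  · rw [hy1, Fin.sum_univ_two]
    fin_cases j <;> simp
  · rw [hy2, Fin.sum_univ_two]
    fin_cases j <;> simp

variable {hF E hsp} {y : SU 4 F q} {a : F} (ha : a ^ q = a) (h0 : a ≠ 0) (h2 : a ^ 2 ≠ 1)
  (hy1 : ∀ j, act y (e j) = a • e j) (hy2 : ∀ j, act y (f j) = a⁻¹ • f j)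

include ha h2 hy1 in
omit [Fintype F] in
/-- elements commuting with `y` preserve the span of `e` -/
theorem cent_e
    (hsp : ∀ v, v = ∑ i, hermForm 4 F q v (f i) • e i + ∑ i, hermForm 4 F q v (e i) • f i)
    {g : SU 4 F q} (hg : g * y = y * g) :
    ∃ A : Matrix (Fin 2) (Fin 2) F, ∀ j, act g (e j) = ∑ i, A i j • e i := by
  refine ⟨Matrix.of fun i j => hermForm 4 F q (act g (e j)) (f i), fun j => ?_⟩
  have h3 : ∀ i, hermForm 4 F q (act g (e j)) (e i) = 0 := by
    intro i
    have h4 : hermForm 4 F q (act y (act g (e j))) (act y (e i)) = hermForm 4 F q (act g (e j)) (e i) :=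
      herm_act _ _ _
    rw [← act_mul, ← hg, act_mul, hy1, hy1, act_smul, herm_smul_left, herm_smul_right, ha] at h4
    have h5 : (a ^ 2 - 1) * hermForm 4 F q (act g (e j)) (e i) = 0 := by linear_combination h4
    exact (mul_eq_zero.1 h5).resolve_left (sub_ne_zero.2 h2)
  conv_lhs => rw [hsp (act g (e j))]
  simp only [h3, zero_smul, Finset.sum_const_zero, add_zero, Matrix.of_apply]

end Frame

section Main

variable {e f : Fin 2 → (Fin 4 → F)} (E : Frm q e f)
  (hsp : ∀ v, v = ∑ i, hermForm 4 F q v (f i) • e i + ∑ i, hermForm 4 F q v (e i) • f i)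

include hF in
/-- the frame with `e` and `f` exchanged -/
theorem frm_symm {e f : Fin 2 → (Fin 4 → F)} (E : Frm q e f) : Frm q f e :=
  ⟨E.ff, E.ee, fun i j => by
    rw [herm_swap hF, E.ef, ite_pow, one_pow, zero_pow_q hF]
    simp only [eq_comm]⟩

/-- **The subgroup `SL₂(q²)` is the Levi complement's derived group.** -/
theorem levi {p : ℕ} (hgood : Good p (Matrix.SpecialLinearGroup (Fin 2) F)) {y : SU 4 F q} {a : F}
    (ha : a ^ q = a) (h2 : a ^ 2 ≠ 1) (hy1 : ∀ j, act y (e j) = a • e j)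
    (hy2 : ∀ j, act y (f j) = a⁻¹ • f j) :
    (kapHom hF E hsp).range ≤ Subgroup.centralizer (Subgroup.zpowers y : Set (SU 4 F q)) ∧
      Subgroup.centralizer (Subgroup.zpowers y : Set (SU 4 F q)) ≤
        Subgroup.normalizer ((kapHom hF E hsp).range : Set (SU 4 F q)) ∧ Good p (kapHom hF E hsp).range := by
  refine ⟨?_, ?_, hgood.of_surjective (kapHom hF E hsp).rangeRestrict (kapHom hF E hsp).rangeRestrict_surjective⟩
  · rintro x ⟨M, rfl⟩
    rw [Subgroup.mem_centralizer_iff]
    rintro s ⟨n, rfl⟩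
    have h9 : Commute y (kapHom hF E hsp M) := by
      change y * kap hF E M = kap hF E M * y
      refine ext4 hsp (fun j => ?_) fun j => ?_
      · rw [act_mul, act_mul, kap_e, hy1, act_smul, kap_e, act_sum]
        simp only [act_smul, hy1, Fin.sum_univ_two]
        module
      · rw [act_mul, act_mul, kap_f, hy2, act_smul, kap_f, act_sum]
        simp only [act_smul, hy2, Fin.sum_univ_two]
        module
    exact (h9.zpow_left n)
  · have hsp' : ∀ v, v = ∑ i, hermForm 4 F q v (e i) • f i + ∑ i, hermForm 4 F q v (f i) • e i := by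
      intro v
      conv_lhs => rw [hsp v]
      rw [add_comm]
    have hi1 : (a⁻¹) ^ q = a⁻¹ := by rw [inv_pow, ha]
    have hi2 : (a⁻¹) ^ 2 ≠ 1 := by
      rw [inv_pow]
      intro h
      exact h2 (inv_eq_one.1 h)
    have key : ∀ g ∈ Subgroup.centralizer (Subgroup.zpowers y : Set (SU 4 F q)),
        ∀ k ∈ (kapHom hF E hsp).range, g * k * g⁻¹ ∈ (kapHom hF E hsp).range := by
      rintro g hg _ ⟨M, rfl⟩
      have hgy : g * y = y * g := (Subgroup.mem_centralizer_iff.1 hg y (Subgroup.mem_zpowers y)).symm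
      have hgy' : g⁻¹ * y = y * g⁻¹ :=
        (Subgroup.mem_centralizer_iff.1 (inv_mem hg) y (Subgroup.mem_zpowers y)).symm
      obtain ⟨A, hA⟩ := cent_e ha h2 hy1 hsp hgy
      obtain ⟨A', hA'⟩ := cent_e ha h2 hy1 hsp hgy'
      obtain ⟨B, hB⟩ := cent_e hi1 hi2 hy2 hsp' hgy
      obtain ⟨B', hB'⟩ := cent_e hi1 hi2 hy2 hsp' hgy'
      refine mem_range hF E hsp (A := A * M.1 * A') (B := B * dual hF M * B') ?_ ?_ ?_
      · exact act_comp (act_comp hA (kap_e hF E M)) hA'
      · exact act_comp (act_comp hB (kap_f hF E M)) hB'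
      · have h3 : A * A' = 1 := by
          ext i j
          have h4 := act_comp hA hA' j
          rw [mul_inv_cancel, act_one] at h4
          have h5 : hermForm 4 F q (e j) (f i) = hermForm 4 F q (∑ k, (A * A') k j • e k) (f i) :=
            congrArg (fun v => hermForm 4 F q v (f i)) h4
          rw [E.ef, herm_sum_left] at h5
          simp only [herm_smul_left, E.ef, mul_ite, mul_one, mul_zero, Finset.sum_ite_eq', Finset.mem_univ,
            if_true] at h5
          rw [Matrix.one_apply, ← h5]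
          simp only [eq_comm]
        rw [Matrix.det_mul, Matrix.det_mul, M.2, mul_one, ← Matrix.det_mul, h3, Matrix.det_one]
    intro g hg
    rw [Subgroup.mem_normalizer_iff]
    intro k
    refine ⟨key g hg k, fun h => ?_⟩
    have h9 := key g⁻¹ (inv_mem hg) _ h
    simpa [mul_assoc] using h9

end Main

/-- the dual of a unipotent matrix -/
theorem dual_u (t : F) (h : (!![1, t; 0, 1] : Matrix (Fin 2) (Fin 2) F).det = 1) :
    dual hF ⟨!![1, t; 0, 1], h⟩ = !![1, 0; -t ^ q, 1] := by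
  change ((Matrix.adjugate !![1, t; 0, 1])ᵀ).map (conj hF) = _
  rw [Matrix.adjugate_fin_two_of]
  ext i j
  fin_cases i <;> fin_cases j <;> simp [conj_apply, neg_pow_q hF, zero_pow_q hF]

include hF in
/-- an element of the ground field -/
theorem exists_a (hq : 4 ≤ q) : ∃ a : F, a ^ q = a ∧ a ≠ 0 ∧ a ^ 2 ≠ 1 := by
  obtain ⟨g, hg⟩ := IsCyclic.exists_generator (α := Fˣ)
  have h1 : orderOf g = (q + 1) * (q - 1) := by
    rw [← card_units_eq hF]
    exact orderOf_eq_card_of_forall_mem_zpowers hg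
  have h2 : orderOf (g ^ (q + 1)) = q - 1 := by
    rw [orderOf_pow_of_dvd (by omega) (by rw [h1]; exact dvd_mul_right _ _), h1, Nat.mul_div_cancel_left _ (by omega)]
  refine ⟨((g ^ (q + 1) : Fˣ) : F), ?_, Units.ne_zero _, ?_⟩
  · have h3 : (g ^ (q + 1)) ^ (q - 1) = 1 := by rw [← h2, pow_orderOf_eq_one]
    have h4 : (g ^ (q + 1)) ^ q = g ^ (q + 1) := by
      obtain ⟨r, rfl⟩ : ∃ r, q = r + 1 := ⟨q - 1, by omega⟩
      rw [Nat.add_sub_cancel] at h3
      rw [pow_succ, h3, one_mul]
    rw [← Units.val_pow_eq_pow_val, h4]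
  · intro h
    have h4 : (g ^ (q + 1)) ^ 2 = 1 := by
      apply Units.ext
      rw [Units.val_pow_eq_pow_val, h, Units.val_one]
    have h5 := orderOf_dvd_of_pow_eq_one h4
    rw [h2] at h5
    have h6 := Nat.le_of_dvd (by omega) h5
    omega

include hF in
/-- **`PSU_4(q)`, `q ≥ 4`.** -/
theorem good_four {p : ℕ} [Fact p.Prime] [CharP F p] (hq : 4 ≤ q)
    (hgood : Good p (Matrix.SpecialLinearGroup (Fin 2) F)) : Good p (PSU 4 F q) := by
  have hp : p.Prime := Fact.out
  have hs : IsSimpleGroup (PSU 4 F q) := Cfsg.Agent.S0283.result hF _ (by omega) (by omega)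
  obtain ⟨W, hB, hV⟩ := exists_wframe' hF (N := 4) (m := 2) (Or.inl rfl)
  have hee : ∀ i j, hermForm 4 F q (W.e i) (W.e j) = 0 := W.ee
  have hff : ∀ i j, hermForm 4 F q (W.f i) (W.f j) = 0 := W.ff
  have hef : ∀ i j, hermForm 4 F q (W.e i) (W.f j) = if i = j then 1 else 0 := W.ef
  have hfe : ∀ i j, hermForm 4 F q (W.f i) (W.e j) = if i = j then 1 else 0 := W.fe
  have E1 : Frm q W.e W.f := ⟨hee, hff, hef⟩
  have hsp1 : ∀ v, v = ∑ i, hermForm 4 F q v (W.f i) • W.e i + ∑ i, hermForm 4 F q v (W.e i) • W.f i := by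
    intro v
    obtain ⟨x, z, w, hw, rfl⟩ := W.span v
    have hw0 : w = 0 := by
      funext j
      exact hV w hw j (by have := j.2; omega)
    subst hw0
    simp only [add_zero, herm_add_left, herm_sum_left, herm_smul_left, hee, hff, hef, hfe, mul_ite, mul_one, mul_zero,
      Finset.sum_ite_eq', Finset.mem_univ, if_true, Finset.sum_const_zero, zero_add]
  obtain ⟨e2, he2⟩ : ∃ e2 : Fin 2 → (Fin 4 → F), e2 = ![W.e 0, W.f 1] := ⟨_, rfl⟩
  obtain ⟨f2, hf2⟩ : ∃ f2 : Fin 2 → (Fin 4 → F), f2 = ![W.f 0, W.e 1] := ⟨_, rfl⟩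
  have e20 : e2 0 = W.e 0 := by rw [he2]; rfl
  have e21 : e2 1 = W.f 1 := by rw [he2]; rfl
  have f20 : f2 0 = W.f 0 := by rw [hf2]; rfl
  have f21 : f2 1 = W.e 1 := by rw [hf2]; rfl
  have E2 : Frm q e2 f2 := by
    refine ⟨?_, ?_, ?_⟩
    · intro i j
      fin_cases i <;> fin_cases j <;> simp [he2, hee, hff, hef, hfe]
    · intro i j
      fin_cases i <;> fin_cases j <;> simp [hf2, hee, hff, hef, hfe]
    · intro i j
      fin_cases i <;> fin_cases j <;> simp [he2, hf2, hee, hff, hef, hfe]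
  have hsp2 : ∀ v, v = ∑ i, hermForm 4 F q v (f2 i) • e2 i + ∑ i, hermForm 4 F q v (e2 i) • f2 i := by
    intro v
    have h1 := hsp1 v
    rw [Fin.sum_univ_two, Fin.sum_univ_two] at h1
    rw [Fin.sum_univ_two, Fin.sum_univ_two, e20, e21, f20, f21]
    rw [add_add_add_comm]
    conv_lhs => rw [h1]
    module
  obtain ⟨a, ha, ha0, ha2⟩ := exists_a hF hq
  obtain ⟨y1, hy1e, hy1f⟩ := exists_y hF E1 ha ha0
  obtain ⟨y2, hy2e, hy2f⟩ := exists_y hF E2 ha ha0
  have hy1T : y1 ∈ TS hF W := fun i => ⟨⟨_, hy1e i⟩, ⟨_, hy1f i⟩⟩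
  have hy2T : y2 ∈ TS hF W := by
    intro i
    have t0 := hy2e 0
    have t1 := hy2e 1
    have t2 := hy2f 0
    have t3 := hy2f 1
    rw [e20] at t0
    rw [e21] at t1
    rw [f20] at t2
    rw [f21] at t3
    fin_cases i
    · exact ⟨⟨_, t0⟩, ⟨_, t2⟩⟩
    · exact ⟨⟨_, t3⟩, ⟨_, t1⟩⟩
  have hTT : ∀ s ∈ TS hF W, ∀ t ∈ TS hF W, t * s = s * t := by
    intro s hs t ht
    refine ext4 hsp1 (fun i => ?_) fun i => ?_
    · obtain ⟨b, hb⟩ := (hs i).1
      obtain ⟨c, hc⟩ := (ht i).1
      rw [act_mul, act_mul, hb, hc, act_smul, act_smul, hb, hc, smul_comm]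
    · obtain ⟨b, hb⟩ := (hs i).2
      obtain ⟨c, hc⟩ := (ht i).2
      rw [act_mul, act_mul, hb, hc, act_smul, act_smul, hb, hc, smul_comm]
  obtain ⟨M, Q, h1, h2, h3, h4, h5, h6, h7⟩ := data' (p := p) hF (by omega) (by omega) W
  obtain ⟨t, ht⟩ := exists_not_fixed hF
  have hμ0 : t ^ q - t ≠ 0 := sub_ne_zero.2 ht
  have hμ : (t ^ q - t) + (t ^ q - t) ^ q = 0 := by
    rw [sub_pow_q hF, pow_q_pow_q hF]; ring
  have hsg : IsSiegel q (W.e 0) (0 : Fin 4 → F) (t ^ q - t) :=
    ⟨hee 0 0, herm_zero_left _, by rw [herm_zero_left, add_zero]; exact hμ⟩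
  have hu0 : W.e 0 ≠ 0 := by
    intro h
    have := hef 0 0
    rw [h, herm_zero_left, if_pos rfl] at this
    exact zero_ne_one this
  refine good_of_key hp (QuotientGroup.mk' (Subgroup.center (SU 4 F q))) (QuotientGroup.mk'_surjective _) ?_
  intro H k hH
  obtain ⟨H', hH', ⟨g, hg⟩, hT, hK⟩ := exists_conj_of_torus hp hH h1 h2 h3 h4 h5 h6
    (fun m hm s hs => h7 s hs (hTT s hs) m hm)
  have L1 := levi hF E1 hsp1 hgood ha ha2 hy1e hy1f
  have L2 := levi hF E2 hsp2 hgood ha ha2 hy2e hy2f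
  have K1 := hK _ _ (by rwa [Subgroup.zpowers_le]) L1.1 L1.2.1 L1.2.2
  have K2 := hK _ _ (by rwa [Subgroup.zpowers_le]) L2.1 L2.2.1 L2.2.2
  let M1 : Matrix.SpecialLinearGroup (Fin 2) F := ⟨!![1, t; 0, 1], by simp [Matrix.det_fin_two]⟩
  let M2 : Matrix.SpecialLinearGroup (Fin 2) F := ⟨!![1, 1; 0, 1], by simp [Matrix.det_fin_two]⟩
  set u1 := kap hF E1 M1 with hu1
  set u2 := kap hF E2 M2 with hu2
  have hu1H : u1 ∈ H' := K1 ⟨M1, rfl⟩
  have hu2H : u2 ∈ H' := K2 ⟨M2, rfl⟩
  have hM1 : dual hF M1 = !![1, 0; -t ^ q, 1] := dual_u hF t _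
  have hM2 : dual hF M2 = !![1, 0; -1, 1] := by
    have := dual_u hF (1 : F) M2.2
    rwa [one_pow] at this
  have a10 : act u1 (W.e 0) = W.e 0 := by
    rw [hu1, kap_e, Fin.sum_univ_two]
    simp [M1]
  have a11 : act u1 (W.e 1) = W.e 1 + t • W.e 0 := by
    rw [hu1, kap_e, Fin.sum_univ_two]
    simp [M1, add_comm]
  have b10 : act u1 (W.f 0) = W.f 0 - t ^ q • W.f 1 := by
    rw [hu1, kap_f, Fin.sum_univ_two, hM1]
    simp [sub_eq_add_neg]
  have b11 : act u1 (W.f 1) = W.f 1 := by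
    rw [hu1, kap_f, Fin.sum_univ_two, hM1]
    simp
  have a20 : act u2 (W.e 0) = W.e 0 := by
    have := kap_e hF E2 M2 0
    rw [Fin.sum_univ_two, e20, e21] at this
    rw [hu2, this]
    simp [M2]
  have b21 : act u2 (W.f 1) = W.f 1 + W.e 0 := by
    have := kap_e hF E2 M2 1
    rw [Fin.sum_univ_two, e20, e21] at this
    rw [hu2, this]
    simp [M2, add_comm]
  have b20 : act u2 (W.f 0) = W.f 0 - W.e 1 := by
    have := kap_f hF E2 M2 0
    rw [Fin.sum_univ_two, f20, f21, hM2] at this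
    rw [hu2, this]
    simp [sub_eq_add_neg]
  have a21 : act u2 (W.e 1) = W.e 1 := by
    have := kap_f hF E2 M2 1
    rw [Fin.sum_univ_two, f20, f21, hM2] at this
    rw [hu2, this]
    simp
  set z := siegel hF (W.e 0) 0 (t ^ q - t) hsg with hz
  have hzact : ∀ v, act z v = v + ((t ^ q - t) * hermForm 4 F q v (W.e 0)) • W.e 0 := by
    intro v
    rw [hz, act_siegel, herm_zero_right hF, sub_zero, smul_zero, add_zero]
  have hzH : z ∈ H' := by
    have h8 : u1 * u2 = z * (u2 * u1) := by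
      refine ext4 hsp1 (fun i => ?_) fun i => ?_
      · fin_cases i
        · simp only [act_mul, Fin.zero_eta, a10, a20, hzact, hee, mul_zero, zero_smul, add_zero]
        · simp only [act_mul, Fin.mk_one, a11, a21, a20, a10, act_add, act_smul, hzact, herm_add_left,
            herm_smul_left, hee, mul_zero, zero_smul, add_zero]
      · fin_cases i
        · simp only [act_mul, Fin.zero_eta, b10, b20, b21, b11, a11, a21, a20, a10, act_add, act_sub, act_smul, hzact,
            herm_add_left, herm_sub_left, herm_smul_left, hee, hfe]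
          norm_num
          module
        · simp only [act_mul, Fin.mk_one, b10, b20, b21, b11, a11, a21, a20, a10, act_add, act_smul, hzact,
            herm_add_left, herm_smul_left, hee, hfe]
          norm_num
    have h9 : z = u1 * u2 * (u2 * u1)⁻¹ := by rw [h8]; group
    rw [h9]
    exact mul_mem (mul_mem hu1H hu2H) (inv_mem (mul_mem hu2H hu1H))
  have hzg : g * z * g⁻¹ = siegel hF (act g (W.e 0)) 0 (t ^ q - t)
      ⟨by rw [herm_act]; exact hee 0 0, herm_zero_left _, by rw [herm_zero_left, add_zero]; exact hμ⟩ := by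
    rw [hz, conj_siegel]
    exact siegel_congr hF _ _ rfl (act_zero g) rfl
  refine ⟨g * z * g⁻¹, (hg z).1 hzH, ?_, ?_⟩
  · rw [hzg]
    exact not_dvd_index hF (by omega) (fun h => hu0 ((act_eq_zero g).1 h)) _
  · intro h
    rw [QuotientGroup.mk'_apply, QuotientGroup.eq_one_iff, hzg] at h
    refine siegel_not_center hF (by omega) _ hμ0 (f := act g (W.f 0)) ?_ ?_ h
    · rw [herm_act]; exact hff 0 0
    · rw [herm_act, hfe, if_pos rfl]
      exact one_ne_zero

end Cfsg.Agent.H408.PsuFour
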