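import Mathlib
import Cfsg.Agent.H408.Engine
import Cfsg.Agent.H408.PsuMain
import Cfsg.Agent.H809.SelfCentPSU
import Cfsg.Agent.H605.PSLTwoGood
import Cfsg.Agent.S0280
import Cfsg.Agent.S0279

/-!
# The base groups of the row `PSU` (helper408)

`base` : the structure `PsuMain.Base p` from the order table and the classification of the smaller simple groups.
-/

set_option autoImplicit false

namespace Cfsg.Agent.H408.BaseU

open Cfsg Cfsg.Agent.LieClassical.HermBasic Cfsg.Agent.LieClassical.HermSiegel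
  Cfsg.Agent.LieClassical.HermGen Cfsg.Agent.LieClassical.SUBasic
open Cfsg.Agent.H408.Core Cfsg.Agent.H408.Engine Cfsg.Agent.OrdDiv Matrix

/-- the numeric data -/
theorem of_data (T : OrderTable.{0}) (hS : ∀ (X : Type) [Group X] [Finite X] [IsSimpleGroup X], IsKnownSimple' X)
    {F : Type} [Field F] [Fintype F] {q N : ℕ} (hF : Fintype.card F = q ^ 2) (hN : 3 ≤ N) (h32 : ¬ (N = 3 ∧ q = 2))
    {p r n v : ℕ} (hp : p.Prime) (hr : r.Prime) (hrp : r ≠ p)
    (hn : Nat.gcd N (q + 1) * ((q + 1) * n) =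
      q ^ (N * (N - 1) / 2) * ∏ i ∈ Finset.range N, (if Even i then q ^ (i + 1) + 1 else q ^ (i + 1) - 1))
    {l : List (ℕ × ℕ)} (hv : valid l n = true)
    (hR : ∃ R : Subgroup (PSU N F q), Nat.card R = r ∧ Subgroup.centralizer (R : Set (PSU N F q)) = R)
    {ex : List ℕ} (hex : ∀ s ∈ ex, ∃ g : PSU N F q, orderOf g = s ^ 2) (hpv : ¬ p ^ (v + 1) ∣ n)
    (hchk : chk n l p r v ex = true) : Good p (PSU N F q) := by
  have hs : IsSimpleGroup (PSU N F q) := Cfsg.Agent.S0283.result hF _ hN h32
  obtain ⟨R, hR1, hR2⟩ := hR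
  have hcard : Nat.card (PSU N F q) = n := by
    have h1 := Cfsg.Agent.S0280.result hF N (by omega)
    rw [← hn] at h1
    have h2 : 0 < Nat.gcd N (q + 1) := Nat.gcd_pos_of_pos_left _ (by omega)
    exact Nat.eq_of_mul_eq_mul_left (by omega : 0 < q + 1) (Nat.eq_of_mul_eq_mul_left h2 h1)
  exact good_of_chk T hS hp hr hrp hcard hv hR1 hR2 hex hpv hchk

/-- an element of order nine of `SU 4 F 2` -/
theorem exists_nine {F : Type*} [Field F] [Fintype F] (hF : Fintype.card F = 2 ^ 2) :
    ∃ g : SU 4 F 2, orderOf g = 3 ^ 2 := by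
  obtain ⟨w, hw1, hw⟩ := Cfsg.Agent.H408.PsuCases.exists_omega hF
  have hw0 : w ≠ 0 := by
    rintro rfl
    norm_num at hw
  let M : Matrix (Fin 4) (Fin 4) F := !![0, 0, w, 0; 1, 0, 0, 0; 0, 1, 0, 0; 0, 0, 0, w ^ 2]
  have hdet : M.det = 1 := by
    simp [M, Matrix.det_succ_row_zero, Fin.sum_univ_succ, Fin.succAbove]
    linear_combination hw
  have hact : ∀ v : Fin 4 → F, M *ᵥ v = ![w * v 2, v 0, v 1, w ^ 2 * v 3] := by
    intro v
    funext i
    fin_cases i <;> simp [M, Matrix.mulVec, dotProduct, Fin.sum_univ_four]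
  have hherm : ∀ u v, hermForm 4 F 2 (M *ᵥ u) (M *ᵥ v) = hermForm 4 F 2 u v := by
    intro u v
    rw [hact, hact, herm_def, herm_def, Fin.sum_univ_four, Fin.sum_univ_four]
    simp
    linear_combination (u 2 * v 2 ^ 2 + w ^ 3 * (u 3 * v 3 ^ 2) + u 3 * v 3 ^ 2) * hw
  let g : SU 4 F 2 := mkSU M hdet hherm
  have hg : ∀ v, act g v = ![w * v 2, v 0, v 1, w ^ 2 * v 3] := hact
  have hg3 : ∀ v, act (g ^ 3) v = ![w * v 0, w * v 1, w * v 2, v 3] := by
    intro v
    rw [pow_succ, pow_two, act_mul, act_mul, hg, hg, hg]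
    funext i
    fin_cases i <;> simp
    linear_combination (w ^ 3 + 1) * v 3 * hw
  have hg9 : g ^ 9 = 1 := by
    apply ext_act
    intro v
    rw [show g ^ 9 = (g ^ 3) * (g ^ 3) * (g ^ 3) by group, act_mul, act_mul, hg3, hg3, hg3, act_one]
    funext i
    fin_cases i <;> simp
    · linear_combination v 0 * hw
    · linear_combination v 1 * hw
    · linear_combination v 2 * hw
  have hg3' : g ^ 3 ≠ 1 := by
    intro h
    have h1 := hg3 (Pi.single 0 1)
    rw [h, act_one] at h1
    have h2 := congrFun h1 0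
    simp at h2
    exact hw1 h2.symm
  have : Fact (Nat.Prime 3) := ⟨Nat.prime_three⟩
  exact ⟨g, orderOf_eq_prime_pow (n := 1) (by rw [pow_one]; exact hg3') hg9⟩

/-- orders in `PSU` when the centre of `SU` is trivial -/
theorem exists_order {F : Type*} [Field F] [Fintype F] {q N n : ℕ} (hF : Fintype.card F = q ^ 2) (hN : 3 ≤ N)
    (hc : Nat.gcd N (q + 1) = 1) (h : ∃ g : SU N F q, orderOf g = n) : ∃ g : PSU N F q, orderOf g = n := by
  obtain ⟨g, hg⟩ := h
  have h1 : Nat.card (Subgroup.center (SU N F q)) = 1 := by rw [Cfsg.Agent.S0279.result hF N hN, hc]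
  have h2 : Subgroup.center (SU N F q) = ⊥ := Subgroup.card_eq_one.1 h1
  have h3 : Function.Injective (QuotientGroup.mk' (Subgroup.center (SU N F q))) := by
    rw [← MonoidHom.ker_eq_bot_iff, QuotientGroup.ker_mk', h2]
  exact ⟨QuotientGroup.mk' (Subgroup.center (SU N F q)) g, by rw [← hg]; exact orderOf_injective _ h3 g⟩

theorem exists_nine_five {F : Type*} [Field F] [Fintype F] (hF : Fintype.card F = 2 ^ 2) :
    ∃ g : SU 5 F 2, orderOf g = 3 ^ 2 := by
  obtain ⟨g, hg⟩ := exists_nine hF
  exact ⟨Cfsg.Agent.KFacts.Unit.emb (m := 4) 1 g, by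
    rw [← hg]; exact orderOf_injective _ Cfsg.Agent.KFacts.Unit.emb_injective g⟩

variable (T : OrderTable.{0}) (hS : ∀ (X : Type) [Group X] [Finite X] [IsSimpleGroup X], IsKnownSimple' X)
  {F : Type} [Field F] [Fintype F]

include T hS

theorem u33 (hF : Fintype.card F = 3 ^ 2) : Good 3 (PSU 3 F 3) :=
  of_data T hS hF (by norm_num) (by norm_num) (p := 3) (r := 7) (n := 6048) (v := 3) (by norm_num) (by norm_num)
    (by norm_num) (by decide) (l := [(2, 5), (3, 3), (7, 1)]) (by decide +kernel)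
    (Cfsg.Agent.H809.SelfCent.psu_selfcent 3 3 7 (by decide) F hF) (ex := []) (by simp) (by norm_num)
    (by decide +kernel)

theorem u35 (hF : Fintype.card F = 5 ^ 2) : Good 5 (PSU 3 F 5) :=
  of_data T hS hF (by norm_num) (by norm_num) (p := 5) (r := 7) (n := 126000) (v := 3) (by norm_num) (by norm_num)
    (by norm_num) (by decide) (l := [(2, 4), (3, 2), (5, 3), (7, 1)]) (by decide +kernel)
    (Cfsg.Agent.H809.SelfCent.psu_selfcent 3 5 7 (by decide) F hF) (ex := []) (by simp) (by norm_num)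
    (by decide +kernel)

theorem u37 (hF : Fintype.card F = 7 ^ 2) : Good 7 (PSU 3 F 7) :=
  of_data T hS hF (by norm_num) (by norm_num) (p := 7) (r := 43) (n := 5663616) (v := 3) (by norm_num) (by norm_num)
    (by norm_num) (by decide) (l := [(2, 7), (3, 1), (7, 3), (43, 1)]) (by decide +kernel)
    (Cfsg.Agent.H809.SelfCent.psu_selfcent 3 7 43 (by decide) F hF) (ex := []) (by simp) (by norm_num)
    (by decide +kernel)

theorem u3e (hF : Fintype.card F = 11 ^ 2) : Good 11 (PSU 3 F 11) :=
  of_data T hS hF (by norm_num) (by norm_num) (p := 11) (r := 37) (n := 70915680) (v := 3) (by norm_num) (by norm_num)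
    (by norm_num) (by decide) (l := [(2, 5), (3, 2), (5, 1), (11, 3), (37, 1)]) (by decide +kernel)
    (Cfsg.Agent.H809.SelfCent.psu_selfcent 3 11 37 (by decide) F hF) (ex := []) (by simp) (by norm_num)
    (by decide +kernel)

theorem u42 (hF : Fintype.card F = 2 ^ 2) : Good 2 (PSU 4 F 2) :=
  of_data T hS hF (by norm_num) (by norm_num) (p := 2) (r := 5) (n := 25920) (v := 6) (by norm_num) (by norm_num)
    (by norm_num) (by decide) (l := [(2, 6), (3, 4), (5, 1)]) (by decide +kernel)
    (Cfsg.Agent.H809.SelfCent.psu_selfcent 4 2 5 (by decide) F hF) (ex := [3])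
    (by
      intro s hs
      rw [List.mem_singleton] at hs
      subst hs
      exact exists_order hF (by norm_num) (by norm_num) (exists_nine hF)) (by norm_num)
    (by decide +kernel)

theorem u43 (hF : Fintype.card F = 3 ^ 2) : Good 3 (PSU 4 F 3) :=
  of_data T hS hF (by norm_num) (by norm_num) (p := 3) (r := 7) (n := 3265920) (v := 6) (by norm_num) (by norm_num)
    (by norm_num) (by decide) (l := [(2, 7), (3, 6), (5, 1), (7, 1)]) (by decide +kernel)
    (Cfsg.Agent.H809.SelfCent.psu_selfcent 4 3 7 (by decide) F hF) (ex := []) (by simp) (by norm_num)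
    (by decide +kernel)

theorem u52 (hF : Fintype.card F = 2 ^ 2) : Good 2 (PSU 5 F 2) :=
  of_data T hS hF (by norm_num) (by norm_num) (p := 2) (r := 11) (n := 13685760) (v := 10) (by norm_num) (by norm_num)
    (by norm_num) (by decide) (l := [(2, 10), (3, 5), (5, 1), (11, 1)]) (by decide +kernel)
    (Cfsg.Agent.H809.SelfCent.psu_irred hF (by norm_num) (by decide) (by norm_num) (by norm_num) (by norm_num)
      (by norm_num) (by norm_num) (k := 341) (by norm_num) (by norm_num) (by decide) (by norm_num) (by norm_num))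
    (ex := [3])
    (by
      intro s hs
      rw [List.mem_singleton] at hs
      subst hs
      exact exists_order hF (by norm_num) (by norm_num) (exists_nine_five hF)) (by norm_num)
    (by decide +kernel)

theorem u62 (hF : Fintype.card F = 2 ^ 2) : Good 2 (PSU 6 F 2) :=
  of_data T hS hF (by norm_num) (by norm_num) (p := 2) (r := 11) (n := 9196830720) (v := 15) (by norm_num)
    (by norm_num) (by norm_num) (by decide) (l := [(2, 15), (3, 6), (5, 1), (7, 1), (11, 1)]) (by decide +kernel)
    (Cfsg.Agent.H809.SelfCent.psu_selfcent 6 2 11 (by decide) F hF) (ex := []) (by simp) (by norm_num)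
    (by decide +kernel)

omit T hS in
/-- the characteristic -/
theorem char_eq {p q : ℕ} [hp : Fact p.Prime] [CharP F p] (hF : Fintype.card F = q ^ 2) (hq : q.Prime) : p = q := by
  have h1 : p ∣ Fintype.card F := by
    rw [← CharP.cast_eq_zero_iff F p]
    exact FiniteField.cast_card_eq_zero F
  rw [hF] at h1
  exact (Nat.prime_dvd_prime_iff_eq hp.out hq).1 (hp.out.dvd_of_dvd_pow h1)

/-- **The base groups.** -/
theorem base (p : ℕ) [hp : Fact p.Prime] : Cfsg.Agent.H408.PsuMain.Base p where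
  sl K _ _ _ h2 h3 h5 h7 h11 := Cfsg.Agent.H605.PSLTwoGood.good_sl (by simp [h2, h3, h5, h7, h11])
  three F _ _ _ q hF h := by
    rcases h with rfl | rfl | rfl | rfl
    · rw [char_eq (p := p) hF (by norm_num)]; exact u33 T hS hF
    · rw [char_eq (p := p) hF (by norm_num)]; exact u35 T hS hF
    · rw [char_eq (p := p) hF (by norm_num)]; exact u37 T hS hF
    · rw [char_eq (p := p) hF (by norm_num)]; exact u3e T hS hF
  four F _ _ _ q hF h := by
    rcases h with rfl | rfl
    · rw [char_eq (p := p) hF (by norm_num)]; exact u42 T hS hF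
    · rw [char_eq (p := p) hF (by norm_num)]; exact u43 T hS hF
  five F _ _ _ hF := by rw [char_eq (p := p) hF (by norm_num)]; exact u52 T hS hF
  six F _ _ _ hF := by rw [char_eq (p := p) hF (by norm_num)]; exact u62 T hS hF

/-- **The row `PSU`, own characteristic.** -/
theorem good_psu {p : ℕ} [Fact p.Prime] [CharP F p] {q N : ℕ} (hF : Fintype.card F = q ^ 2) (hN : 3 ≤ N)
    (h32 : ¬ (N = 3 ∧ q = 2)) : Good p (PSU N F q) :=
  Cfsg.Agent.H408.PsuMain.good_psu (base T hS p) hF hN h32

end Cfsg.Agent.H408.BaseU
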