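import Cfsg.Agent.H408.SporEng
import Cfsg.Agent.H547.SelfCent.McLHS
import Cfsg.Agent.H393.Iso.Suz
import Cfsg.Agent.LThreeCo1Suz.Main
import Cfsg.Agent.NotCT.Orders

/-!
# The elements of order 11 of `Suz` are self-centralizing (helper408)

`Suz ≅ C(t) / ⟨t⟩`, `t` of order 3 in `Co1 = Co0 / {±1}`, and `|C_{Co0}(x)| ≤ 264` for `x` of order 11 (helper12); so
`|C_{Suz}(x)| ≤ 44`; no element of order 22; Sylow.
-/

set_option autoImplicit false

namespace Cfsg.Agent.H408.SelfSuz

open Subgroup Cfsg Cfsg.Agent.H393.Iso Cfsg.Agent.H547.SelfCent Cfsg.Agent.H408.SporEng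

/-- lifting an element of prime order through a central kernel of order prime to it -/
theorem lift {A B : Type*} [Group A] [Group B] [Finite A] (π : A →* B) (hπ : Function.Surjective π)
    (hk : π.ker ≤ center A) {r : ℕ} (hr : r.Prime) (hcop : (Nat.card π.ker).Coprime r) {x : B} (hx : orderOf x = r) :
    ∃ a : A, orderOf a = r ∧ Nat.card (centralizer ({x} : Set B)) * Nat.card π.ker ≤
      Nat.card (centralizer ({a} : Set A)) := by
  obtain ⟨a₀, ha₀⟩ := hπ x
  obtain ⟨u, hu⟩ := Nat.exists_mul_mod_eq_one_of_coprime hcop hr.one_lt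
  have hx1 : x ^ (Nat.card π.ker * u) = x := by
    rw [← pow_mod_orderOf, hx, hu.2, pow_one]
  have har : a₀ ^ r ∈ π.ker := by rw [MonoidHom.mem_ker, map_pow, ha₀, ← hx, pow_orderOf_eq_one]
  have h1 : (a₀ ^ r) ^ Nat.card π.ker = 1 := by
    have h2 := pow_card_eq_one' (x := (⟨a₀ ^ r, har⟩ : π.ker))
    exact congrArg Subtype.val h2
  obtain ⟨a, ha⟩ : ∃ a, a = a₀ ^ (Nat.card π.ker * u) := ⟨_, rfl⟩
  have hπa : π a = x := by rw [ha, map_pow, ha₀, hx1]
  have hao : orderOf a = r := by
    have h3 : orderOf a ∣ r := by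
      apply orderOf_dvd_of_pow_eq_one
      rw [ha, ← pow_mul, mul_comm _ r, ← mul_assoc, pow_mul, pow_mul, h1, one_pow]
    rcases (Nat.dvd_prime hr).1 h3 with h4 | h4
    · exfalso
      rw [orderOf_eq_one_iff] at h4
      rw [h4, map_one] at hπa
      rw [← hπa, orderOf_one] at hx
      exact hr.one_lt.ne hx
    · exact h4
  refine ⟨a, hao, ?_⟩
  have hle : (centralizer ({x} : Set B)).comap π ≤ centralizer ({a} : Set A) := by
    intro y hy
    rw [mem_comap, mem_centralizer_singleton_iff, ← hπa, ← map_mul, ← map_mul] at hy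
    rw [mem_centralizer_singleton_iff]
    -- `c = y a (a y)⁻¹` is in the kernel
    have hc : y * a * (a * y)⁻¹ ∈ π.ker := by
      rw [MonoidHom.mem_ker, map_mul, map_inv, hy, mul_inv_cancel]
    obtain ⟨c, hcc⟩ : ∃ c, c = y * a * (a * y)⁻¹ := ⟨_, rfl⟩
    rw [← hcc] at hc
    have hcen := mem_center_iff.1 (hk hc)
    have h5 : y * a * y⁻¹ = c * a := by rw [hcc]; group
    have h6 : (y * a * y⁻¹) ^ r = 1 := by
      have h7 : (y * a * y⁻¹) ^ r = y * a ^ r * y⁻¹ := conj_pow
      rw [h7, ← hao, pow_orderOf_eq_one]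
      group
    have hcomm : Commute c a := (hcen a).symm
    rw [h5, hcomm.mul_pow, ← hao, pow_orderOf_eq_one, mul_one] at h6
    have h8 : orderOf c ∣ r := by rw [← hao]; exact orderOf_dvd_of_pow_eq_one h6
    have h9 : orderOf c ∣ Nat.card π.ker := by
      have := orderOf_dvd_natCard (⟨c, hc⟩ : π.ker)
      rwa [Subgroup.orderOf_mk] at this
    have h10 : orderOf c = 1 := Nat.eq_one_of_dvd_coprimes hcop h9 h8
    rw [orderOf_eq_one_iff] at h10
    rw [h10, one_mul] at h5
    calc y * a = y * a * y⁻¹ * y := by group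
      _ = a * y := by rw [h5]
  have h2 := Nat.le_of_dvd Nat.card_pos (Subgroup.card_dvd_of_le hle)
  have h3 : Nat.card ((centralizer ({x} : Set B)).comap π) =
      Nat.card (centralizer ({x} : Set B)) * Nat.card π.ker := by
    have h4 := Subgroup.card_mul_index ((centralizer ({x} : Set B)).comap π)
    rw [index_comap_of_surjective _ hπ] at h4
    have hfin : Finite B := Finite.of_surjective π hπ
    have h5 := Subgroup.card_mul_index (centralizer ({x} : Set B))
    have h6 : Nat.card A = Nat.card B * Nat.card π.ker := by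
      rw [card_eq_card_quotient_mul_card_subgroup π.ker,
        Nat.card_congr (QuotientGroup.quotientKerEquivOfSurjective π hπ).toEquiv]
    have h7 : 0 < (centralizer ({x} : Set B)).index := Nat.pos_of_ne_zero FiniteIndex.index_ne_zero
    apply Nat.eq_of_mul_eq_mul_right h7
    rw [h4, h6, ← h5]
    ring
  rwa [h3] at h2

theorem list_of {c : ℕ} (h0 : c ≠ 0) (h : 11 * c ≤ 44) (h2 : ¬ 2 ∣ 11 * c) : c ∈ [1, 3] := by
  have h1 : c ≤ 4 := by omega
  interval_cases c <;> simp_all

/-- centralizers of elements of order 11 in `Co1` -/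
theorem co1_le [Finite Spor.Co1] {x : Spor.Co1} (hx : orderOf x = 11) :
    Nat.card (centralizer ({x} : Set Spor.Co1)) * 2 ≤ 264 := by
  have hf := McLHS.finite_co0
  have hker : (QuotientGroup.mk' (center Co0)).ker = center Co0 := QuotientGroup.ker_mk' _
  obtain ⟨a, ha, hle⟩ := lift (QuotientGroup.mk' (center Co0)) (QuotientGroup.mk'_surjective _) hker.le
    (r := 11) (by norm_num) (by rw [hker, Cfsg.Agent.S0398.result]; norm_num) hx
  rw [hker, Cfsg.Agent.S0398.result] at hle
  exact hle.trans (McLHS.cent_le ha)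

theorem cent_le {s : Spor.Co1} (hs : orderOf s = 3) {x : LThreeMB.XX s} (hx : orderOf x = 11) :
    Nat.card (centralizer ({x} : Set (LThreeMB.XX s))) ≤ 44 := by
  have hf := McLHS.finite_co0
  have hf1 : Finite Spor.Co1 := Quotient.finite _
  have hker : (QuotientGroup.mk' (LThreeMB.Zx s)).ker = LThreeMB.Zx s := QuotientGroup.ker_mk' _
  have hc3 : Nat.card (LThreeMB.Zx s) = 3 := by
    have h1 : orderOf (⟨s, mem_centralizer_singleton_iff.2 rfl⟩ : centralizer ({s} : Set Spor.Co1)) = 3 := by
      rw [Subgroup.orderOf_mk, hs]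
    rw [← h1]
    exact Nat.card_zpowers _
  obtain ⟨a, ha, hle⟩ := lift (QuotientGroup.mk' (LThreeMB.Zx s)) (QuotientGroup.mk'_surjective _) (by
    rw [hker]
    intro y hy
    rw [mem_center_iff]
    intro g
    obtain ⟨k, rfl⟩ := mem_zpowers_iff.1 hy
    have h1 : Commute g (⟨s, mem_centralizer_singleton_iff.2 rfl⟩ : centralizer ({s} : Set Spor.Co1)) :=
      Subtype.ext (mem_centralizer_singleton_iff.1 g.2)
    exact (h1.zpow_right k).eq) (r := 11) (by norm_num) (by rw [hker, hc3]; norm_num) hx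
  rw [hker, hc3] at hle
  have ha' : orderOf (a : Spor.Co1) = 11 := by rw [Subgroup.orderOf_coe, ha]
  have h2 := co1_le ha'
  have h3 : Nat.card (centralizer ({a} : Set (centralizer ({s} : Set Spor.Co1)))) ≤
      Nat.card (centralizer ({(a : Spor.Co1)} : Set Spor.Co1)) := by
    refine Nat.card_le_card_of_injective (fun c => (⟨((c : centralizer ({s} : Set Spor.Co1)) : Spor.Co1), ?_⟩ :
      centralizer ({(a : Spor.Co1)} : Set Spor.Co1))) ?_
    · rw [mem_centralizer_singleton_iff]
      exact congrArg Subtype.val (mem_centralizer_singleton_iff.1 c.2)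
    · intro c d h
      simp only [Subtype.mk.injEq] at h
      exact Subtype.ext (Subtype.ext h)
  have h4 : Nat.card (centralizer ({x} : Set (LThreeMB.XX s))) * 3 ≤ 44 * 3 := hle.trans (h3.trans (by omega))
  exact Nat.le_of_mul_le_mul_right h4 (by norm_num)

open Cfsg.Agent.LThreeCo1.FourCo1 Cfsg.Agent.LThreeCo1.RelQ in
theorem order_s : orderOf (QuotientGroup.mk (LThreeCo1.Rel.e 1) : Spor.Co1) = 3 := by
  have hX : X 0 ≠ 1 := by
    intro h
    have h1 := four.xa 0
    have h2 := four.xb 0
    rw [h, one_mul, mul_one] at h1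
    rw [h, one_mul, mul_one] at h2
    have h3 := four.ba 0
    rw [h1] at h3
    exact four.large.z_ne (mul_eq_left.1 h3.symm)
  have : Fact (Nat.Prime 3) := ⟨Nat.prime_three⟩
  exact orderOf_eq_prime (four.x3 0) hX

theorem suz {G : Type*} [Group G] [Finite G] [IsSimpleGroup G] (h : Spor.IsoSuz G) : Self 11 G := by
  have hN := NotCT.Orders.suz h
  have hna := na_suz h
  refine Self.of_all (by norm_num) (by rw [hN]; norm_num) fun x hx => ?_
  refine card_of_chkL (by norm_num) hx hN (by norm_num) (by norm_num) (L := [1, 3]) (fun c hc => ?_)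
    (fun _ _ _ => one_dvd _) (by decide +kernel)
  have h2 := odd_cent hx hna
  rw [hc] at h2
  have h1 : Nat.card (centralizer ({x} : Set G)) ≤ 44 := by
    obtain ⟨e⟩ := h
    obtain ⟨e'⟩ := LThreeCo1Suz.Main.t0
    have hx' : orderOf (e'.symm (e x)) = 11 := by rw [MulEquiv.orderOf_eq, MulEquiv.orderOf_eq, hx]
    refine le_trans (le_of_eq ?_) (cent_le order_s hx')
    exact Nat.card_congr (Equiv.ofBijective
      (fun c : centralizer ({x} : Set G) => (⟨(e.trans e'.symm) c, by
        rw [mem_centralizer_singleton_iff]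
        change (e.trans e'.symm) c * (e.trans e'.symm) x = (e.trans e'.symm) x * (e.trans e'.symm) c
        rw [← map_mul, ← map_mul, mem_centralizer_singleton_iff.1 c.2]⟩ :
          centralizer ({e'.symm (e x)} : Set _))) ⟨fun a b hab =>
        Subtype.ext ((e.trans e'.symm).injective (congrArg Subtype.val hab)), by
      rintro ⟨c, hcc⟩
      refine ⟨⟨(e.trans e'.symm).symm c, ?_⟩, Subtype.ext ((e.trans e'.symm).apply_symm_apply c)⟩
      rw [mem_centralizer_singleton_iff]
      apply (e.trans e'.symm).injective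
      rw [map_mul, map_mul, (e.trans e'.symm).apply_symm_apply]
      exact mem_centralizer_singleton_iff.1 hcc⟩)
  rw [hc] at h1
  refine list_of ?_ h1 h2
  rintro rfl
  exact (Nat.card_pos (α := centralizer ({x} : Set G))).ne' (by rw [hc, mul_zero])

end Cfsg.Agent.H408.SelfSuz
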