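import Cfsg.Agent.H408.PPRest
import Cfsg.Agent.H249.PPEtwo

/-!
# All rows of S3608 (helper408)
-/

set_option autoImplicit false

namespace Cfsg.Agent.H408.PPFinal

open Cfsg Cfsg.Agent.H408.Idx8 Cfsg.Agent.H408.PPMain Cfsg.Agent.OrdDiv

universe u

variable (T : OrderTable.{0}) (hS : ∀ (X : Type) [Group X] [Finite X] [IsSimpleGroup X], IsKnownSimple' X)
include T hS

/-- untwisted exceptional groups, own characteristic -/
theorem exc : Same.{u} fun p G _ => IsExceptionalChevChar p G := by
  refine PPAll.exc_same ?_ ?_ ?_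
  · intro K iK iF hK
    have : Fintype K := Fintype.ofFinite K
    exact Cfsg.Agent.H249.PPEtwo.e6 T hS (by rw [← Nat.card_eq_fintype_card, hK])
  · intro K iK iF hK
    have : Fintype K := Fintype.ofFinite K
    exact Cfsg.Agent.H249.PPEtwo.e7 T hS (by rw [← Nat.card_eq_fintype_card, hK])
  · intro K iK iF hK
    have : Fintype K := Fintype.ofFinite K
    exact Cfsg.Agent.H249.PPEtwo.e8 T hS (by rw [← Nat.card_eq_fintype_card, hK])

theorem rows : Rows.{u} := PPRest.rows T hS (exc T hS)

/-- **S3608, with the order table and the classification as hypotheses.** -/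
theorem main {G : Type u} [Group G] [Finite G] (hs : IsSimpleGroup G) (hna : ¬ IsMulCommutative G)
    (hK : IsKnownSimple' G) (H : Subgroup G) (p k : ℕ) (hp : p.Prime) (hk : 1 ≤ k) (hH : H.index = p ^ k) :
    Cfsg.Agent.H408.Idx8.Out G p k :=
  PPMain.main (rows T hS) hs hna hK H p k hp hk hH

end Cfsg.Agent.H408.PPFinal
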