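import Cfsg.Agent.H408.LemmaK

/-!
# Sylow congruence (helper408)

`H` of index `p ^ k`, `R` of prime order `r ≠ p` with `r ∥ |G|`: after conjugation `R ≤ H` and
`|N_G(R) : N_H(R)| ≡ p ^ k (mod r)`.
-/

set_option autoImplicit false

namespace Cfsg.Agent.H408.SylCong

open Subgroup
open scoped Pointwise
open Cfsg.Agent.H408.Core Cfsg.Agent.H408.LemmaK

variable {G : Type*} [Group G] [Finite G] {p k r : ℕ}

/-- subgroups of prime order `r`, `r ∥ |G|`, inside `H` are conjugate in `H` -/
theorem conj_of_card (hr : r.Prime) (hr2 : ¬ r ^ 2 ∣ Nat.card G) {H R S : Subgroup G} (hR : Nat.card R = r)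
    (hS : Nat.card S = r) (hRH : R ≤ H) (hSH : S ≤ H) : ∃ h ∈ H, MulAut.conj h • R = S := by
  have : Fact r.Prime := ⟨hr⟩
  have hd : ¬ r ^ 2 ∣ Nat.card H := fun h => hr2 (h.trans (Subgroup.card_subgroup_dvd_card H))
  have key : ∀ T : Subgroup G, Nat.card T = r → T ≤ H → ∃ P : Sylow r H, (P : Subgroup H).map H.subtype = T := by
    intro T hT hTH
    have h1 : Nat.card (T.subgroupOf H) = r := by
      rw [Nat.card_congr (Subgroup.subgroupOfEquivOfLe hTH).toEquiv, hT]
    have h2 : IsPGroup r (T.subgroupOf H) := IsPGroup.of_card (n := 1) (by rw [h1, pow_one])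
    have h3 : ¬ r ∣ (T.subgroupOf H).index := by
      intro h4
      apply hd
      rw [← Subgroup.card_mul_index (T.subgroupOf H), h1, pow_two]
      exact mul_dvd_mul_left _ h4
    refine ⟨h2.toSylow h3, ?_⟩
    change (T.subgroupOf H).map H.subtype = T
    rw [subgroupOf_map_subtype, inf_eq_left]
    exact hTH
  obtain ⟨P, hP⟩ := key R hR hRH
  obtain ⟨P', hP'⟩ := key S hS hSH
  obtain ⟨h, hh⟩ := MulAction.exists_smul_eq H P P'
  refine ⟨h, h.2, ?_⟩
  rw [← hP, ← hP', ← hh]
  ext x
  rw [Subgroup.mem_pointwise_smul_iff_inv_smul_mem, MulAut.smul_def, ← map_inv, MulAut.conj_apply, inv_inv,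
    Sylow.coe_subgroup_smul, mem_map, mem_map]
  constructor
  · rintro ⟨y, hy, hyx⟩
    refine ⟨h * y * h⁻¹, ?_, ?_⟩
    · rw [Subgroup.mem_pointwise_smul_iff_inv_smul_mem]
      simpa [MulAut.smul_def, mul_assoc] using hy
    · rw [map_mul, map_mul, map_inv, hyx]
      simp [mul_assoc]
  · rintro ⟨y, hy, rfl⟩
    rw [Subgroup.mem_pointwise_smul_iff_inv_smul_mem] at hy
    refine ⟨_, hy, ?_⟩
    simp [MulAut.smul_def, mul_assoc]

/-- **the congruence** -/
theorem relIndex_modEq (hr : r.Prime) (hr2 : ¬ r ^ 2 ∣ Nat.card G) {H R : Subgroup G} (hR : Nat.card R = r)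
    (hRH : R ≤ H) : H.relIndex (normalizer (R : Set G)) ≡ H.index [MOD r] := by
  classical
  have : Fact r.Prime := ⟨hr⟩
  have h2 : IsPGroup r R := IsPGroup.of_card (n := 1) (by rw [hR, pow_one])
  have h3 := h2.card_modEq_card_fixedPoints (G ⧸ H)
  have h4 : Nat.card (MulAction.fixedPoints R (G ⧸ H)) = H.relIndex (normalizer (R : Set G)) := by
    set N : Subgroup G := normalizer (R : Set G) with hN
    have hfix : ∀ g : G, (∀ x : R, x • (g : G ⧸ H) = g) ↔ ∀ x ∈ R, g⁻¹ * x * g ∈ H := by
      intro g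
      constructor
      · intro h x hx
        have h5 := h ⟨x, hx⟩
        have h6 : ((x * g : G) : G ⧸ H) = (g : G ⧸ H) := h5
        rw [QuotientGroup.eq] at h6
        have h7 := inv_mem h6
        simpa [mul_inv_rev, mul_assoc] using h7
      · intro h x
        change ((x.1 * g : G) : G ⧸ H) = (g : G ⧸ H)
        rw [QuotientGroup.eq]
        have h7 := inv_mem (h x x.2)
        simpa [mul_inv_rev, mul_assoc] using h7
    let f : N ⧸ (H.subgroupOf N) → MulAction.fixedPoints R (G ⧸ H) := Quotient.lift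
      (fun n : N => (⟨((n : G) : G ⧸ H), by
        rw [MulAction.mem_fixedPoints, hfix]
        intro x hx
        apply hRH
        have := (mem_normalizer_iff.1 (inv_mem n.2) x).1 hx
        rwa [inv_inv] at this⟩ : MulAction.fixedPoints R (G ⧸ H))) (by
      intro a b hab
      apply Subtype.ext
      change ((a : G) : G ⧸ H) = ((b : G) : G ⧸ H)
      rw [QuotientGroup.eq]
      have h5 : (QuotientGroup.leftRel (H.subgroupOf N)) a b := hab
      rw [QuotientGroup.leftRel_apply, mem_subgroupOf] at h5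
      exact h5)
    have hf : Function.Bijective f := by
      constructor
      · intro a b
        induction a using Quotient.inductionOn' with | h a => ?_
        induction b using Quotient.inductionOn' with | h b => ?_
        intro hab
        have h5 : ((a : G) : G ⧸ H) = ((b : G) : G ⧸ H) := congrArg Subtype.val hab
        rw [QuotientGroup.eq] at h5
        apply Quotient.sound'
        rw [QuotientGroup.leftRel_apply, mem_subgroupOf]
        exact h5
      · rintro ⟨x, hx⟩
        induction x using Quotient.inductionOn' with | h g => ?_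
        have h5 := (hfix g).1 hx
        obtain ⟨h, hh, hc⟩ := conj_of_card hr hr2 (R := R) (S := MulAut.conj g⁻¹ • R) hR
          (by rw [← hR]; exact Nat.card_congr (Subgroup.equivSMul (MulAut.conj g⁻¹) R).toEquiv.symm) hRH (by
            rintro z ⟨y, hy, rfl⟩
            have := h5 y hy
            simpa [MulAut.smul_def] using this)
        have h6 : MulAut.conj (g * h) • R = R := by
          rw [map_mul, mul_smul, hc, ← mul_smul, ← map_mul, mul_inv_cancel, map_one, one_smul]
        have h7 := conj_smul_iff.1 h6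
        have h8 : g * h ∈ N := by
          rw [hN, mem_normalizer_iff]
          intro y
          constructor
          · intro hy
            exact h7.1 y hy
          · intro hy
            have := h7.2 _ hy
            rwa [show (g * h)⁻¹ * (g * h * y * (g * h)⁻¹) * (g * h) = y by group] at this
        refine ⟨((⟨g * h, h8⟩ : N) : N ⧸ H.subgroupOf N), ?_⟩
        apply Subtype.ext
        change ((g * h : G) : G ⧸ H) = (g : G ⧸ H)
        rw [QuotientGroup.eq]
        have : (g * h)⁻¹ * g = h⁻¹ := by group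
        rw [this]
        exact inv_mem hh
    exact (Nat.card_eq_of_bijective f hf).symm
  rw [← h4]
  exact h3.symm

/-- after conjugation a given subgroup `R` of order `r` is in `H` -/
theorem exists_conj (hp : p.Prime) (hr : r.Prime) (hrp : r ≠ p) {H R : Subgroup G} (hH : H.index = p ^ k)
    (hR : Nat.card R = r) : ∃ H' : Subgroup G, H'.index = p ^ k ∧ (∃ g : G, ∀ x, x ∈ H' ↔ g * x * g⁻¹ ∈ H) ∧
      R ≤ H' := by
  have h2 : IsPGroup r R := IsPGroup.of_card (n := 1) (by rw [hR, pow_one])
  obtain ⟨g, hg⟩ := exists_conj_le hr (U := R) (M := H) h2 (by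
    rw [hH]
    intro h
    exact hrp ((Nat.prime_dvd_prime_iff_eq hr hp).1 (hr.dvd_of_dvd_pow h)))
  refine ⟨H.comap (MulAut.conj g).toMonoidHom, ?_, ⟨g, fun x => Iff.rfl⟩, fun t ht => hg t ht⟩
  rw [← hH]
  exact index_comap_of_surjective _ (MulAut.conj g).surjective

/-- **use**: `r ∥ |G|`, `R` of order `r`, `H.index = p ^ k`: some `d = |N_G(R) : N_H'(R)|` is `≡ p ^ k` mod `r`,
`d` divides `|N_G(R)| / r`, and `d` is the index of the normaliser in a conjugate `H'` of `H` containing `R` -/
theorem exists_dvd (hp : p.Prime) (hr : r.Prime) (hrp : r ≠ p) (hr2 : ¬ r ^ 2 ∣ Nat.card G) {H R : Subgroup G}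
    (hH : H.index = p ^ k) (hR : Nat.card R = r) :
    ∃ H' : Subgroup G, H'.index = p ^ k ∧ (∃ g : G, ∀ x, x ∈ H' ↔ g * x * g⁻¹ ∈ H) ∧ R ≤ H' ∧
      H'.relIndex (normalizer (R : Set G)) ≡ p ^ k [MOD r] ∧
      r * H'.relIndex (normalizer (R : Set G)) ∣ Nat.card (normalizer (R : Set G)) := by
  obtain ⟨H', h1, h2, h3⟩ := exists_conj hp hr hrp hH hR
  refine ⟨H', h1, h2, h3, ?_, ?_⟩
  · rw [← h1]
    exact relIndex_modEq hr hr2 hR h3
  · have h4 := Subgroup.card_mul_index (H'.subgroupOf (normalizer (R : Set G)))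
    rw [← h4]
    apply Nat.mul_dvd_mul _ (dvd_refl _)
    have h5 : R.subgroupOf (normalizer (R : Set G)) ≤ H'.subgroupOf (normalizer (R : Set G)) := by
      intro x hx
      exact h3 hx
    have h6 := Subgroup.card_dvd_of_le h5
    rwa [Nat.card_congr (Subgroup.subgroupOfEquivOfLe (le_normalizer : R ≤ normalizer (R : Set G))).toEquiv, hR]
      at h6

end Cfsg.Agent.H408.SylCong
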