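import Cfsg.Agent.H408.SylCong
import Cfsg.Agent.H361.SelfCent
import Cfsg.Agent.S0033
import Cfsg.Agent.Lib.MinNormal
import Cfsg.Agent.Lib.SubnormalJoin
import Cfsg.Agent.Lib.MinNormalNonabelian

/-!
# Structure of a group with a self-centralising subgroup of prime order (helper408)

* `core_bot` : a subgroup of `p`-power index of a simple group has no nontrivial normal `p`-subgroup;
* `cases` : a group with a self-centralising element of prime order `r` has a nontrivial normal elementary abelian
  subgroup of order prime to `r`, or a normal simple subgroup `N` of order divisible by `r` and `|H : N|` dividing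
  `|N(R) : R|`, or a normal subgroup of order `r`.
-/

set_option autoImplicit false

namespace Cfsg.Agent.H408.EngStr

open Subgroup
open Cfsg.Agent.H408.Core Cfsg.Agent.H408.LemmaK
open Cfsg.Agent.H361.SelfCent

section Core

variable {G : Type*} [Group G] [Finite G] {p k : ℕ}

/-- no nontrivial normal `p`-subgroup -/
theorem core_bot (hp : p.Prime) [IsSimpleGroup G] (hGp : ¬ IsPGroup p G) {H N : Subgroup G} (hH : H.index = p ^ k)
    (hN : IsPGroup p N) (hHN : ∀ h ∈ H, ∀ n ∈ N, h * n * h⁻¹ ∈ N) : N = ⊥ := by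
  classical
  have : Fact p.Prime := ⟨hp⟩
  obtain ⟨S⟩ : Nonempty (Sylow p G) := inferInstance
  set M : Subgroup G := normalizer ((S : Subgroup G) : Set G) with hM
  have hMi : M.index ≡ 1 [MOD p] := by
    have e0 : Nat.card (Sylow p G) = M.index := S.card_eq_index_normalizer
    rw [← e0]
    exact card_sylow_modEq_one p G
  have hMp : ¬ p ∣ M.index := by
    intro h
    have h1 : M.index ≡ 0 [MOD p] := (Nat.modEq_zero_iff_dvd).2 h
    have h2 : 1 ≡ 0 [MOD p] := hMi.symm.trans h1
    have h3 := (Nat.modEq_zero_iff_dvd).1 h2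
    exact hp.one_lt.ne' (Nat.dvd_one.1 h3)
  have hcop : H.index.Coprime M.index := by
    rw [hH]
    exact Nat.Coprime.pow_left _ ((Nat.Prime.coprime_iff_not_dvd hp).2 hMp)
  -- a fixed point
  have h1 := hN.card_modEq_card_fixedPoints (G ⧸ M)
  have h2 : Nat.card (MulAction.fixedPoints N (G ⧸ M)) ≠ 0 := by
    intro h3
    rw [h3] at h1
    exact hMp ((Nat.modEq_zero_iff_dvd).1 h1)
  obtain ⟨⟨y, hy⟩⟩ : Nonempty (MulAction.fixedPoints N (G ⧸ M)) := by
    by_contra h
    rw [not_nonempty_iff] at h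
    exact h2 Nat.card_of_isEmpty
  induction y using Quotient.inductionOn' with | h g => ?_
  have hfix : ∀ n ∈ N, g⁻¹ * n * g ∈ M := by
    intro n hn
    have h5 : ((n * g : G) : G ⧸ M) = (g : G ⧸ M) := hy ⟨n, hn⟩
    rw [QuotientGroup.eq] at h5
    have h7 := inv_mem h5
    simpa [mul_inv_rev, mul_assoc] using h7
  have hall : ∀ n ∈ N, ∀ g' : G, g'⁻¹ * n * g' ∈ M := by
    intro n hn g'
    have hcop' : H.index.Coprime (M.map (MulAut.conj g).toMonoidHom).index := by
      have e0 : (M.map (MulAut.conj g).toMonoidHom).index = M.index := index_map_equiv M (MulAut.conj g)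
      rw [e0]
      exact hcop
    obtain ⟨h, hh, m, hm, hgm⟩ := exists_mul hcop' (g' * g⁻¹)
    obtain ⟨m', hm', rfl⟩ := hm
    have e : g' = h * g * m' := by
      have e1 : g' = g' * g⁻¹ * g := by group
      rw [e1, hgm]
      change h * (g * m' * g⁻¹) * g = _
      group
    have h3 : h⁻¹ * n * h ∈ N := by
      have := hHN h⁻¹ (inv_mem hh) n hn
      rwa [inv_inv] at this
    have h4 := hfix _ h3
    have e2 : g'⁻¹ * n * g' = m'⁻¹ * (g⁻¹ * (h⁻¹ * n * h) * g) * m' := by
      rw [e]; group
    rw [e2]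
    exact mul_mem (mul_mem (inv_mem hm') h4) hm'
  have hcore : N ≤ M.normalCore := by
    intro n hn
    change ∀ b : G, b * n * b⁻¹ ∈ M
    intro b
    have := hall n hn b⁻¹
    rwa [inv_inv] at this
  rcases (inferInstance : IsSimpleGroup G).eq_bot_or_eq_top_of_normal M.normalCore inferInstance with h3 | h3
  · rw [h3] at hcore
    exact le_bot_iff.1 hcore
  · have hMt : M = ⊤ := by
      rw [eq_top_iff, ← h3]
      exact normalCore_le M
    have hSn : (S : Subgroup G).Normal := by
      rw [← normalizer_eq_top_iff]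
      exact hMt
    rcases (inferInstance : IsSimpleGroup G).eq_bot_or_eq_top_of_normal (S : Subgroup G) hSn with h4 | h4
    · obtain ⟨P, hP⟩ := hN.exists_le_sylow
      have hPS : (P : Subgroup G) = ⊥ := by
        obtain ⟨c, hc⟩ := MulAction.exists_smul_eq G S P
        rw [← hc, Sylow.coe_subgroup_smul, h4]
        simp
      rw [hPS] at hP
      exact le_bot_iff.1 hP
    · exfalso
      apply hGp
      have h5 := S.isPGroup'
      rw [h4] at h5
      exact h5.of_equiv Subgroup.topEquiv

end Core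

section Str

variable {H : Type*} [Group H] [Finite H] {r m : ℕ} {x : H}

/-- a normal subgroup of order prime to `r` which is minimal normal is elementary abelian -/
theorem elem (h : Sit H r m x) (hm : m ≠ 1) (N : Subgroup H) [hN : N.Normal] (hN1 : N ≠ ⊥)
    (hmin : ∀ M : Subgroup H, M.Normal → M ≤ N → M = ⊥ ∨ M = N) (hr : ¬ r ∣ Nat.card N) :
    ∃ s : ℕ, s.Prime ∧ s ≠ r ∧ IsPGroup s N ∧ (∀ a ∈ N, a ^ s = 1) ∧ (∀ a ∈ N, ∀ b ∈ N, a * b = b * a) := by
  have hrp := h.prime
  have : Fact r.Prime := ⟨hrp⟩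
  have hx := h.orderOf_eq hm
  have hcx := h.cent_eq hm
  -- the automorphism induced by `x`
  let φ : N ≃* N :=
    { toFun := fun w => ⟨x * w * x⁻¹, hN.conj_mem w w.2 x⟩
      invFun := fun w => ⟨x⁻¹ * w * x, by have := hN.conj_mem w w.2 x⁻¹; rwa [inv_inv] at this⟩
      left_inv := fun w => Subtype.ext (by simp [mul_assoc])
      right_inv := fun w => Subtype.ext (by simp [mul_assoc])
      map_mul' := fun a b => Subtype.ext (by simp [mul_assoc]) }
  have hφ : ∀ w : N, ((φ w : N) : H) = x * w * x⁻¹ := fun w => rfl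
  have hφk : ∀ k : ℕ, ∀ w : N, (((φ ^ k) w : N) : H) = x ^ k * w * (x ^ k)⁻¹ := by
    intro k
    induction k with
    | zero => intro w; simp
    | succ k ih =>
      intro w
      rw [pow_succ', MulAut.mul_apply, hφ, ih, pow_succ']
      group
  have hfix : ∀ w : N, φ w = w → w = 1 := by
    intro w hw
    have h1 : x * (w : H) * x⁻¹ = w := congrArg Subtype.val hw
    have h2 : (w : H) ∈ centralizer ({x} : Set H) := by
      rw [mem_centralizer_singleton_iff]
      calc (w : H) * x = (x * (w : H) * x⁻¹) * x := by rw [h1]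
        _ = x * w := by group
    have h3 : orderOf (w : H) ∣ r := by
      rw [← h.cent]
      exact Subgroup.orderOf_dvd_natCard _ h2
    rcases (Nat.dvd_prime hrp).1 h3 with h4 | h4
    · exact Subtype.ext (orderOf_eq_one_iff.1 h4)
    · exfalso
      apply hr
      rw [← h4]
      exact Subgroup.orderOf_dvd_natCard _ w.2
  have hφr : φ ^ r = 1 := by
    ext w
    rw [hφk, ← hx, pow_orderOf_eq_one]
    simp
  have hφ1 : φ ≠ 1 := by
    intro h1
    apply hN1
    rw [eq_bot_iff]
    intro w hw
    have h2 := hfix ⟨w, hw⟩ (by rw [h1]; rfl)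
    rw [mem_bot]
    exact congrArg Subtype.val h2
  have hord : orderOf φ = r := orderOf_eq_prime hφr hφ1
  have hnil : Group.IsNilpotent N := by
    refine Cfsg.Agent.S0033.result φ ?_ r hrp hord
    intro w hw
    exact hfix w hw
  -- commutative
  have hnt : Nontrivial N := (Subgroup.nontrivial_iff_ne_bot N).2 hN1
  have hZ : center N ≠ ⊥ := Group.IsNilpotent.center_ne_bot N
  have hZn : ((center N).map N.subtype).Normal := by
    refine ⟨?_⟩
    rintro _ ⟨z, hz, rfl⟩ g
    have hz' : ∀ w : N, w * z = z * w := mem_center_iff.1 hz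
    refine ⟨⟨g * z * g⁻¹, hN.conj_mem z z.2 g⟩, ?_, rfl⟩
    change _ ∈ center N
    rw [mem_center_iff]
    intro w
    have h1 := hz' ⟨g⁻¹ * w * g, by have := hN.conj_mem w w.2 g⁻¹; rwa [inv_inv] at this⟩
    have h2 : (g⁻¹ * (w : H) * g) * z = z * (g⁻¹ * w * g) := congrArg Subtype.val h1
    apply Subtype.ext
    change (w : H) * (g * z * g⁻¹) = (g * z * g⁻¹) * w
    calc (w : H) * (g * z * g⁻¹) = g * ((g⁻¹ * (w : H) * g) * z) * g⁻¹ := by group
      _ = g * (z * (g⁻¹ * w * g)) * g⁻¹ := by rw [h2]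
      _ = _ := by group
  have hZN : (center N).map N.subtype = N := by
    rcases hmin _ hZn (by rintro _ ⟨z, -, rfl⟩; exact z.2) with h1 | h1
    · exact absurd ((Subgroup.map_eq_bot_iff_of_injective _ N.subtype_injective).1 h1) hZ
    · exact h1
  have hab : ∀ a ∈ N, ∀ b ∈ N, Commute a b := by
    intro a ha b hb
    rw [← hZN] at ha
    obtain ⟨z, hz, rfl⟩ := ha
    have h1 := mem_center_iff.1 hz ⟨b, hb⟩
    have h2 : b * (z : H) = z * b := congrArg Subtype.val h1
    exact h2.symm
  obtain ⟨s, hs, hsN, hs1⟩ := Cfsg.Agent.Lib.MinNormalNonabelian.abelian_structure N hN1 hmin hab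
  refine ⟨s, hs, ?_, hsN, hs1, fun a ha b hb => hab a ha b hb⟩
  rintro rfl
  apply hr
  have : Fact s.Prime := ⟨hs⟩
  obtain ⟨k, hk⟩ := hsN.exists_card_eq
  rw [hk]
  apply dvd_pow_self
  rintro rfl
  apply hN1
  rw [pow_zero] at hk
  exact Subgroup.card_eq_one.1 hk

/-- a minimal normal subgroup of order divisible by `r` is simple -/
theorem simple (h : Sit H r m x) (N : Subgroup H) [hN : N.Normal] (hN1 : N ≠ ⊥)
    (hmin : ∀ M : Subgroup H, M.Normal → M ≤ N → M = ⊥ ∨ M = N) (hr : r ∣ Nat.card N) :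
    IsSimpleGroup N := by
  obtain ⟨T, j, hTN, hT, hj, ⟨e⟩⟩ := Cfsg.Agent.Lib.MinNormal.exists_mulEquiv_pi N hN1 hmin
  have hc : Nat.card N = Nat.card T ^ j := by
    rw [Nat.card_congr e.toEquiv, Nat.card_pi]
    simp
  have hrT : r ∣ Nat.card T := by
    rw [hc] at hr
    exact h.prime.dvd_of_dvd_pow hr
  have hj1 : j = 1 := by
    by_contra hj2
    have h1 : r ^ 2 ∣ Nat.card H := by
      have h2 : r ^ j ∣ Nat.card N := by
        rw [hc]
        exact pow_dvd_pow_of_dvd hrT j
      exact ((pow_dvd_pow r (by omega)).trans h2).trans (Subgroup.card_subgroup_dvd_card N)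
    rw [h.card, pow_two] at h1
    exact h.ndvd (Nat.dvd_of_mul_dvd_mul_left h.prime.pos h1)
  subst hj1
  have e2 : N ≃* T := e.trans
    { toFun := fun f => f 0
      invFun := fun t _ => t
      left_inv := fun f => by funext i; rw [Subsingleton.elim i 0]
      right_inv := fun t => rfl
      map_mul' := fun f g => rfl }
  have hnt : Nontrivial N := (Subgroup.nontrivial_iff_ne_bot N).2 hN1
  exact IsSimpleGroup.isSimpleGroup_of_surjective e2.symm.toMonoidHom e2.symm.surjective

/-- Frattini: the index of a normal subgroup of order divisible by `r` divides `|N(R)| / r` -/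
theorem index_dvd (h : Sit H r m x) (hm : m ≠ 1) (N : Subgroup H) [hN : N.Normal] (hr : r ∣ Nat.card N) {e : ℕ}
    (he : Nat.card (normalizer ((zpowers x : Subgroup H) : Set H)) = r * e) : N.index ∣ e := by
  have : Fact r.Prime := ⟨h.prime⟩
  obtain ⟨y, hy⟩ := exists_prime_orderOf_dvd_card' r hr
  have hy' : orderOf (y : H) = r := by rw [Subgroup.orderOf_coe, hy]
  have hS := h.cent_of_orderOf hm hy'
  -- the normaliser of `⟨y⟩` has order `r e`
  have he2 : Nat.card (normalizer ((zpowers (y : H) : Subgroup H) : Set H)) = r * e := by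
    obtain ⟨e', -, he'⟩ := hS.card_norm hm
    have h1 := hS.card_sylow_mul hm he'
    have h2 := h.card_sylow_mul hm he
    have hn0 : 0 < Nat.card (Sylow r H) := Nat.card_pos
    have h3 : e' = e := Nat.eq_of_mul_eq_mul_left hn0 (by rw [h1, h2])
    rw [he', h3]
  have hPy : IsPGroup r (zpowers y) :=
    IsPGroup.of_card (n := 1) (by rw [Nat.card_zpowers, hy, pow_one])
  obtain ⟨P, hP⟩ := hPy.exists_le_sylow
  have hPc : Nat.card P = r := by
    obtain ⟨k, hk⟩ := IsPGroup.iff_card.1 P.isPGroup'
    have h1 : Nat.card P ∣ r * m := by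
      rw [← h.card]
      exact dvd_trans (Subgroup.card_subgroup_dvd_card _) (Subgroup.card_subgroup_dvd_card _)
    have h2 : r ∣ Nat.card P := by
      have h3 := Subgroup.card_dvd_of_le hP
      rwa [Nat.card_zpowers, hy] at h3
    have hk1 : k ≤ 1 := by
      by_contra hk2
      apply h.ndvd
      have h3 : r ^ 2 ∣ Nat.card P := by rw [hk]; exact pow_dvd_pow r (by omega)
      have h4 : r * r ∣ r * m := by rw [← pow_two]; exact dvd_trans h3 h1
      exact Nat.dvd_of_mul_dvd_mul_left h.prime.pos h4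
    have hk0 : k ≠ 0 := by
      rintro rfl
      rw [hk, pow_zero] at h2
      exact h.prime.one_lt.ne' (Nat.dvd_one.1 h2)
    have : k = 1 := by omega
    rw [hk, this, pow_one]
  have hPe : zpowers y = P := by
    apply Subgroup.eq_of_le_of_card_ge hP
    rw [hPc, Nat.card_zpowers, hy]
  have hmap : (P : Subgroup N).map N.subtype = zpowers (y : H) := by
    rw [← hPe, MonoidHom.map_zpowers]
    rfl
  have hfr := Sylow.normalizer_sup_eq_top P
  rw [hmap] at hfr
  set M := normalizer ((zpowers (y : H) : Subgroup H) : Set H) with hM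
  have h3 : N.relIndex (M ⊔ N) = N.relIndex M := Subgroup.relIndex_sup_right _ _
  rw [hfr, Subgroup.relIndex_top_right] at h3
  -- `r` divides `|N ∩ M|`
  have h4 := Subgroup.card_mul_index (N.subgroupOf M)
  have h5 : r ∣ Nat.card (N.subgroupOf M) := by
    have h6 : (zpowers (y : H)).subgroupOf M ≤ N.subgroupOf M := by
      intro w hw
      rw [mem_subgroupOf] at hw ⊢
      have h7 : zpowers (y : H) ≤ N := by rw [zpowers_le]; exact y.2
      exact h7 hw
    have h8 := Subgroup.card_dvd_of_le h6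
    rwa [Nat.card_congr (Subgroup.subgroupOfEquivOfLe (le_normalizer : zpowers (y : H) ≤ M)).toEquiv,
      Nat.card_zpowers, hy'] at h8
  obtain ⟨c, hc⟩ := h5
  have h9 : (N.subgroupOf M).index = N.index := h3.symm
  rw [h9, he2, hc] at h4
  have h10 : c * N.index = e := by
    apply Nat.eq_of_mul_eq_mul_left h.prime.pos
    rw [← h4]; ring
  exact ⟨c, by rw [← h10]; ring⟩

/-- **the structure theorem** -/
theorem cases (h : Sit H r m x) (hm : m ≠ 1) :
    (∃ (N : Subgroup H) (s : ℕ), N.Normal ∧ N ≠ ⊥ ∧ s.Prime ∧ s ≠ r ∧ IsPGroup s N ∧ (∀ a ∈ N, a ^ s = 1) ∧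
      (∀ a ∈ N, ∀ b ∈ N, a * b = b * a)) ∨
    (∃ N : Subgroup H, IsSimpleGroup N ∧ (¬ ∀ a b : N, a * b = b * a) ∧ r ∣ Nat.card N ∧
      ∀ e, Nat.card (normalizer ((zpowers x : Subgroup H) : Set H)) = r * e → N.index ∣ e) ∨
    (∀ e, Nat.card (normalizer ((zpowers x : Subgroup H) : Set H)) = r * e → m = e) := by
  have hrp := h.prime
  have : Fact r.Prime := ⟨hrp⟩
  have hnt : Nontrivial H := by
    rw [← Finite.one_lt_card_iff_nontrivial, h.card]
    have := h.m_pos
    have := hrp.two_le
    nlinarith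
  obtain ⟨N, hN, hN1, hmin⟩ := Cfsg.Agent.Lib.SubnormalJoin.exists_minimal_normal H
  by_cases hr : r ∣ Nat.card N
  · right
    have hs := simple h N hN1 hmin hr
    by_cases hab : ∀ a b : N, a * b = b * a
    · right
      intro e he
      -- `|N| = r`
      have hcp : (Nat.card N).Prime := by
        let _ : CommGroup N := { (inferInstance : Group N) with mul_comm := hab }
        exact IsSimpleGroup.prime_card
      have hNr : Nat.card N = r := ((Nat.prime_dvd_prime_iff_eq hrp hcp).1 hr).symm
      have h1 := index_dvd h hm N hr he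
      have h2 := Subgroup.card_mul_index N
      rw [hNr, h.card] at h2
      have h3 : N.index = m := Nat.eq_of_mul_eq_mul_left hrp.pos h2
      rw [h3] at h1
      have h4 : r * e ∣ r * m := by
        rw [← he, ← h.card]
        exact Subgroup.card_subgroup_dvd_card _
      exact Nat.dvd_antisymm h1 (Nat.dvd_of_mul_dvd_mul_left hrp.pos h4)
    · left
      exact ⟨N, hs, hab, hr, fun e he => index_dvd h hm N hr he⟩
  · left
    obtain ⟨s, h1, h2, h3, h4, h5⟩ := elem h hm N hN1 hmin hr
    exact ⟨N, s, hN, hN1, h1, h2, h3, h4, h5⟩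

end Str

end Cfsg.Agent.H408.EngStr
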