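import Cfsg.Agent.H408.Core
import Cfsg.Agent.S0030

/-!
# Lemma K (helper408)

`H` of index `p ^ k`, `M` of index prime to `p`, `Q` a normal `p`-subgroup of `M`, `Y` a `p'`-subgroup of `M` with
`Q Y` normal in `M`. Then a conjugate of `H` contains `Y`; and if `Y ≤ H` then `|C_G(Y) : C_H(Y)|` is a power of `p`.
-/

set_option autoImplicit false

namespace Cfsg.Agent.H408.LemmaK

open Subgroup
open scoped Pointwise
open Cfsg.Agent.H408.Core

variable {G : Type*} [Group G] [Finite G] {p k : ℕ}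

/-- `|D : A| = |B : A ∩ B|` when `D = B A` -/
theorem relIndex_eq_of_mul {A B D : Subgroup G} (hBD : B ≤ D)
    (h : ∀ d ∈ D, ∃ b ∈ B, ∃ a ∈ A, d = b * a) : A.relIndex D = A.relIndex B := by
  classical
  let f : B ⧸ (A.subgroupOf B) → D ⧸ (A.subgroupOf D) :=
    Quotient.map' (fun b : B => (⟨b, hBD b.2⟩ : D)) (by
      intro a b hab
      rw [QuotientGroup.leftRel_apply] at hab ⊢
      exact hab)
  have hf : Function.Injective f := by
    intro a b
    induction a using Quotient.inductionOn' with | h a => ?_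
    induction b using Quotient.inductionOn' with | h b => ?_
    intro hab
    have h2 : ((⟨a, hBD a.2⟩ : D) : D ⧸ A.subgroupOf D) = ((⟨b, hBD b.2⟩ : D) : D ⧸ A.subgroupOf D) := hab
    rw [QuotientGroup.eq] at h2
    apply Quotient.sound'
    rw [QuotientGroup.leftRel_apply]
    exact h2
  have hs : Function.Surjective f := by
    intro x
    induction x using Quotient.inductionOn' with | h d => ?_
    obtain ⟨b, hb, a, ha, hd⟩ := h d d.2
    refine ⟨((⟨b, hb⟩ : B) : B ⧸ A.subgroupOf B), ?_⟩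
    change ((⟨b, hBD hb⟩ : D) : D ⧸ A.subgroupOf D) = (d : D ⧸ A.subgroupOf D)
    rw [QuotientGroup.eq, mem_subgroupOf]
    change (b : G)⁻¹ * (d : G) ∈ A
    rw [hd, inv_mul_cancel_left]
    exact ha
  exact (Nat.card_eq_of_bijective f ⟨hf, hs⟩).symm

/-- an index dividing a power of `p` is a power of `p` -/
theorem exists_pow (hp : p.Prime) {n m : ℕ} (h : n ∣ p ^ m) : ∃ j, n = p ^ j := by
  obtain ⟨j, -, hj⟩ := (Nat.dvd_prime_pow hp).1 h
  exact ⟨j, hj⟩

/-- a `p'`-subgroup `Y` of `Q Y` is conjugate into every subgroup of `p`-power index of `Q Y` -/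
theorem exists_conj_le_of_sup (hp : p.Prime) {H Q Y : Subgroup G} (hQ : IsPGroup p Q)
    (hYQ : Y ≤ normalizer (Q : Set G)) (hY : ¬ p ∣ Nat.card Y) {j : ℕ} (hj : H.relIndex (Q ⊔ Y) = p ^ j) :
    ∃ g ∈ Q, ∀ y ∈ Y, g * y * g⁻¹ ∈ H := by
  have : Fact p.Prime := ⟨hp⟩
  obtain ⟨a, ha⟩ := hQ.exists_card_eq
  have hcop : (Nat.card Y).Coprime (Nat.card Q) := by
    rw [ha]
    exact (Nat.Coprime.pow_left _ ((Nat.Prime.coprime_iff_not_dvd hp).2 hY)).symm
  have hinf : Q ⊓ Y = ⊥ := by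
    exact (Subgroup.disjoint_of_coprime_natCard hcop.symm).eq_bot
  -- order of `Q Y`
  have hcard : Nat.card (Q ⊔ Y : Subgroup G) = Nat.card Q * Nat.card Y := by
    have h1 := Subgroup.card_mul_index (Q.subgroupOf (Q ⊔ Y))
    rw [Nat.card_congr (Subgroup.subgroupOfEquivOfLe (le_sup_left : Q ≤ Q ⊔ Y)).toEquiv] at h1
    have h2 : (Q.subgroupOf (Q ⊔ Y)).index = Nat.card Y := by
      change Q.relIndex (Q ⊔ Y) = _
      have h3 : Q.relIndex (Q ⊔ Y) = Q.relIndex Y := by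
        apply relIndex_eq_of_mul le_sup_right
        intro d hd
        rw [sup_comm] at hd
        have h4 : d ∈ ((Y ⊔ Q : Subgroup G) : Set G) := hd
        rw [Subgroup.coe_mul_of_left_le_normalizer_right Y Q hYQ] at h4
        obtain ⟨y, hy, q, hq, rfl⟩ := Set.mem_mul.1 h4
        exact ⟨y, hy, q, hq, rfl⟩
      rw [h3]
      have h5 : Q.relIndex Y = (⊥ : Subgroup G).relIndex Y := by
        rw [← inf_relIndex_right Q Y, hinf]
      rw [h5, relIndex_bot_left]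
    rw [← h1, h2]
  -- the complement in `H ∩ Q Y`
  let D : Subgroup G := H ⊓ (Q ⊔ Y)
  have hQn : (Q.subgroupOf (Q ⊔ Y)).Normal := by
    apply Subgroup.normal_subgroupOf_of_le_normalizer
    exact sup_le le_normalizer hYQ
  have hQD : (Q.subgroupOf D).Normal := by
    apply Subgroup.normal_subgroupOf_of_le_normalizer
    exact inf_le_right.trans (sup_le le_normalizer hYQ)
  have hcD : Nat.card D * p ^ j = Nat.card Q * Nat.card Y := by
    rw [← hcard, ← hj]
    have h1 := Subgroup.card_mul_index (D.subgroupOf (Q ⊔ Y))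
    rw [Nat.card_congr (Subgroup.subgroupOfEquivOfLe (inf_le_right : D ≤ Q ⊔ Y)).toEquiv] at h1
    rw [← h1]
    congr 1
    change H.relIndex (Q ⊔ Y) = (H ⊓ (Q ⊔ Y)).relIndex (Q ⊔ Y)
    rw [inf_relIndex_right]
  have hidx : (Q.subgroupOf D).index ∣ Nat.card Y := by
    have h1 : Q.relIndex D ∣ Q.relIndex (Q ⊔ Y) := by
      have h2 : Q.relIndex D = Q.relIndex (Q ⊔ D) := by
        symm
        have h3 : Q.relIndex (Q ⊔ D) = Q.relIndex D := by
          apply relIndex_eq_of_mul le_sup_right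
          intro d hd
          rw [sup_comm] at hd
          have h4 : d ∈ ((D ⊔ Q : Subgroup G) : Set G) := hd
          rw [Subgroup.coe_mul_of_left_le_normalizer_right D Q
            (inf_le_right.trans (sup_le le_normalizer hYQ))] at h4
          obtain ⟨y, hy, q, hq, rfl⟩ := Set.mem_mul.1 h4
          exact ⟨y, hy, q, hq, rfl⟩
        exact h3
      rw [h2]
      have h5 := relIndex_mul_relIndex Q (Q ⊔ D) (Q ⊔ Y) le_sup_left
        (sup_le le_sup_left inf_le_right)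
      exact ⟨_, h5.symm⟩
    have h6 : Q.relIndex (Q ⊔ Y) = Nat.card Y := by
      have h7 := Subgroup.card_mul_index (Q.subgroupOf (Q ⊔ Y))
      rw [Nat.card_congr (Subgroup.subgroupOfEquivOfLe (le_sup_left : Q ≤ Q ⊔ Y)).toEquiv, hcard] at h7
      exact Nat.eq_of_mul_eq_mul_left Nat.card_pos h7
    rw [h6] at h1
    exact h1
  have hQDc : (Nat.card (Q.subgroupOf D)) ∣ Nat.card Q := by
    have h1 : (Nat.card (Q.subgroupOf D)) = Nat.card (Q ⊓ D : Subgroup G) := by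
      rw [← Subgroup.inf_subgroupOf_right]
      exact Nat.card_congr (Subgroup.subgroupOfEquivOfLe inf_le_right).toEquiv
    rw [h1]
    exact Subgroup.card_dvd_of_le inf_le_left
  have hidx' : (Q.subgroupOf D).index = Nat.card Y := by
    have h1 : Nat.card (Q.subgroupOf D) * (Q.subgroupOf D).index = Nat.card D := Subgroup.card_mul_index _
    apply Nat.dvd_antisymm hidx
    -- `|Y|` divides `|D| p ^ j = |Q| |Y|`, is prime to `p`
    have h2 : Nat.card Y ∣ Nat.card (Q.subgroupOf D) * (Q.subgroupOf D).index * p ^ j := by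
      rw [h1, hcD]
      exact Dvd.intro_left _ rfl
    have h3 : (Nat.card Y).Coprime (p ^ j) :=
      (Nat.Coprime.pow_left _ ((Nat.Prime.coprime_iff_not_dvd hp).2 hY)).symm
    have h4 : (Nat.card Y).Coprime (Nat.card (Q.subgroupOf D)) := Nat.Coprime.coprime_dvd_right hQDc hcop
    exact h4.dvd_of_dvd_mul_left (h3.dvd_of_dvd_mul_right h2)
  have hcopD : (Nat.card (Q.subgroupOf D)).Coprime (Q.subgroupOf D).index := by
    rw [hidx']
    exact (Nat.Coprime.coprime_dvd_right hQDc hcop).symm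
  obtain ⟨B, hB⟩ := Subgroup.exists_right_complement'_of_coprime hcopD
  have hBc : Nat.card B = Nat.card Y := by
    rw [← hidx']
    exact (hB.symm.index_eq_card).symm
  have hBm : B.map D.subtype ≤ Q ⊔ Y := by
    rintro x ⟨y, -, rfl⟩
    exact y.2.2
  have hBmc : Nat.card (B.map D.subtype) = Nat.card Y := by
    rw [← hBc]
    exact Nat.card_congr (B.equivMapOfInjective _ (subtype_injective _)).toEquiv.symm
  have hsol : Group.IsSolvable Q := by
    have : Group.IsNilpotent Q := hQ.isNilpotent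
    infer_instance
  obtain ⟨d, hd, hdB⟩ := Cfsg.Agent.S0030.exists_conj_eq Y Q (B.map D.subtype) hYQ hcop (Or.inr hsol) hBm hBmc
  refine ⟨d, hd, fun y hy => ?_⟩
  have h1 : MulAut.conj d • y ∈ MulAut.conj d • Y := smul_mem_pointwise_smul _ _ _ hy
  rw [hdB] at h1
  obtain ⟨z, -, hz⟩ := h1
  have h2 : d * y * d⁻¹ = z := by
    rw [← MulAut.conj_apply]
    exact hz.symm
  rw [h2]
  exact z.2.1

/-- two subgroups `Y ≤ H`, `Y ^ g ≤ H` with `Y ^ g ≤ Q Y` are conjugate in `H ∩ Q` -/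
theorem exists_conj_mem (hp : p.Prime) {H Q Y Z : Subgroup G} (hQ : IsPGroup p Q)
    (hYQ : Y ≤ normalizer (Q : Set G)) (hY : ¬ p ∣ Nat.card Y) (hYH : Y ≤ H) (hZH : Z ≤ H) (hZ : Z ≤ Q ⊔ Y)
    (hc : Nat.card Z = Nat.card Y) : ∃ d ∈ H ⊓ Q, MulAut.conj d • Y = Z := by
  have : Fact p.Prime := ⟨hp⟩
  obtain ⟨a, ha⟩ := hQ.exists_card_eq
  have hcop : (Nat.card Y).Coprime (Nat.card (H ⊓ Q : Subgroup G)) := by
    refine Nat.Coprime.coprime_dvd_right (Subgroup.card_dvd_of_le inf_le_right) ?_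
    rw [ha]
    exact (Nat.Coprime.pow_left _ ((Nat.Prime.coprime_iff_not_dvd hp).2 hY)).symm
  have hYn : Y ≤ normalizer ((H ⊓ Q : Subgroup G) : Set G) := by
    intro y hy
    rw [mem_normalizer_iff]
    intro x
    have h1 := mem_normalizer_iff.1 (hYQ hy) x
    have h2 := mem_normalizer_iff.1 (le_normalizer (hYH hy)) x
    change (x ∈ H ∧ x ∈ Q) ↔ (y * x * y⁻¹ ∈ H ∧ y * x * y⁻¹ ∈ Q)
    rw [← h1, ← h2]
  have hsol : Group.IsSolvable (H ⊓ Q : Subgroup G) := by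
    have h1 : IsPGroup p (H ⊓ Q : Subgroup G) := hQ.to_le inf_le_right
    have : Group.IsNilpotent (H ⊓ Q : Subgroup G) := h1.isNilpotent
    infer_instance
  have hZ' : Z ≤ (H ⊓ Q) ⊔ Y := by
    intro z hz
    have h1 : z ∈ ((Q ⊔ Y : Subgroup G) : Set G) := hZ hz
    rw [Subgroup.coe_mul_of_right_le_normalizer_left Q Y hYQ] at h1
    obtain ⟨q, hq, y, hy, rfl⟩ := Set.mem_mul.1 h1
    have h2 : q ∈ H := by
      have h3 := mul_mem (hZH hz) (inv_mem (hYH hy))
      rwa [mul_inv_cancel_right] at h3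
    exact mul_mem (mem_sup_left ⟨h2, hq⟩) (mem_sup_right hy)
  exact Cfsg.Agent.S0030.exists_conj_eq Y (H ⊓ Q) Z hYn hcop (Or.inr hsol) hZ' hc

theorem conj_smul_iff {Y Z : Subgroup G} {d : G} :
    MulAut.conj d • Y = Z ↔ ((∀ y ∈ Y, d * y * d⁻¹ ∈ Z) ∧ ∀ z ∈ Z, d⁻¹ * z * d ∈ Y) := by
  constructor
  · rintro rfl
    refine ⟨fun y hy => ?_, fun z hz => ?_⟩
    · have := smul_mem_pointwise_smul y (MulAut.conj d) Y hy
      rwa [MulAut.smul_def, MulAut.conj_apply] at this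
    · have := Subgroup.mem_pointwise_smul_iff_inv_smul_mem.1 hz
      rwa [MulAut.smul_def, ← map_inv, MulAut.conj_apply, inv_inv] at this
  · rintro ⟨h1, h2⟩
    ext z
    rw [Subgroup.mem_pointwise_smul_iff_inv_smul_mem, MulAut.smul_def, ← map_inv, MulAut.conj_apply, inv_inv]
    constructor
    · intro hz
      have := h1 _ hz
      rwa [show d * (d⁻¹ * z * d) * d⁻¹ = z by group] at this
    · exact h2 z

/-- if `Y ≤ H` then `|N_G(Y) : N_H(Y)|` is a power of `p` -/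
theorem relIndex_normalizer (hp : p.Prime) {H M Q Y : Subgroup G} (hH : H.index = p ^ k) (hM : ¬ p ∣ M.index)
    (hQM : Q ≤ M) (hMQ : M ≤ normalizer (Q : Set G)) (hQ : IsPGroup p Q) (hYM : Y ≤ M) (hY : ¬ p ∣ Nat.card Y)
    (hMY : ∀ m ∈ M, ∀ y ∈ Y, m * y * m⁻¹ ∈ Q ⊔ Y) (hYH : Y ≤ H) :
    ∃ j, H.relIndex (normalizer (Y : Set G)) = p ^ j := by
  have : Fact p.Prime := ⟨hp⟩
  have hcopHM : H.index.Coprime M.index := by
    rw [hH]
    exact Nat.Coprime.pow_left _ ((Nat.Prime.coprime_iff_not_dvd hp).2 hM)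
  have hYQ : Y ≤ normalizer (Q : Set G) := hYM.trans hMQ
  set N : Subgroup G := normalizer (Y : Set G) with hN
  -- conjugates of `Y` by elements of `M` which lie in `H`
  have key : ∀ m ∈ M, (∀ y ∈ Y, m⁻¹ * y * m ∈ H) → ∃ d ∈ H ⊓ Q, m * d ∈ N := by
    intro m hm hmH
    obtain ⟨d, hd, hdY⟩ := exists_conj_mem hp (Z := MulAut.conj m⁻¹ • Y) hQ hYQ hY hYH (by
      intro z hz
      obtain ⟨y, hy, rfl⟩ := hz
      have := hmH y hy
      simpa [MulAut.smul_def] using this) (by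
      intro z hz
      obtain ⟨y, hy, rfl⟩ := hz
      have := hMY m⁻¹ (inv_mem hm) y hy
      simpa [MulAut.smul_def] using this) (by
      exact Nat.card_congr (Subgroup.equivSMul (MulAut.conj m⁻¹) Y).toEquiv.symm)
    refine ⟨d, hd, ?_⟩
    have h1 := conj_smul_iff.1 hdY
    have h2 : MulAut.conj (m * d) • Y = Y := by
      rw [map_mul, mul_smul, hdY, ← mul_smul, ← map_mul, mul_inv_cancel, map_one, one_smul]
    have h3 := conj_smul_iff.1 h2
    rw [hN, mem_normalizer_iff]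
    intro y
    constructor
    · intro hy
      exact h3.1 y hy
    · intro hy
      have := h3.2 _ hy
      rwa [show (m * d)⁻¹ * (m * d * y * (m * d)⁻¹) * (m * d) = y by group] at this
  -- (1) `|N : N ∩ H| = |N ∩ M : N ∩ M ∩ H|`
  have h1 : H.relIndex N = H.relIndex (N ⊓ M) := by
    have e1 : H.relIndex N = (H ⊓ N).relIndex N := by rw [inf_relIndex_right]
    have e2 : H.relIndex (N ⊓ M) = (H ⊓ N).relIndex (N ⊓ M) := by
      rw [← inf_relIndex_right H (N ⊓ M), ← inf_relIndex_right (H ⊓ N) (N ⊓ M)]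
      congr 1
      ext x
      simp only [mem_inf]
      tauto
    rw [e1, e2]
    apply relIndex_eq_of_mul inf_le_left
    intro n hn
    obtain ⟨h, hh, m, hm, hnm⟩ := exists_mul hcopHM n⁻¹
    -- `n = m⁻¹ h⁻¹`
    have hn' : n = m⁻¹ * h⁻¹ := by rw [← mul_inv_rev, ← hnm, inv_inv]
    obtain ⟨d, hd, hmd⟩ := key m⁻¹ (inv_mem hm) (by
      intro y hy
      -- `m y m⁻¹ = h⁻¹ (n⁻¹ y n) h`
      have h2 : n⁻¹ * y * n ∈ Y := by
        have := (mem_normalizer_iff.1 (inv_mem hn) y).1 hy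
        rwa [inv_inv] at this
      have e : m⁻¹⁻¹ * y * m⁻¹ = h⁻¹ * (n⁻¹ * y * n) * h := by
        rw [hn']; group
      rw [e]
      exact mul_mem (mul_mem (inv_mem hh) (hYH h2)) hh)
    refine ⟨m⁻¹ * d, Subgroup.mem_inf.2 ⟨hmd, mul_mem (inv_mem hm) (hQM hd.2)⟩, d⁻¹ * h⁻¹,
      Subgroup.mem_inf.2 ⟨?_, ?_⟩, ?_⟩
    · exact mul_mem (inv_mem hd.1) (inv_mem hh)
    · have e : d⁻¹ * h⁻¹ = (m⁻¹ * d)⁻¹ * n := by rw [hn']; group
      rw [e]
      exact mul_mem (inv_mem hmd) hn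
    · rw [hn']; group
  -- (2) `|D : N_D(Y)|` is a power of `p`, `D = H ∩ M`
  have h2 : N.relIndex (H ⊓ M) = N.relIndex (H ⊓ Q) := by
    apply relIndex_eq_of_mul (inf_le_inf_left _ hQM)
    intro d hd
    obtain ⟨e, he, hde⟩ := key d⁻¹ (inv_mem hd.2) (by
      intro y hy
      rw [inv_inv]
      exact mul_mem (mul_mem hd.1 (hYH hy)) (inv_mem hd.1))
    refine ⟨e, he, e⁻¹ * d, ?_, by group⟩
    have h3 := inv_mem hde
    rwa [mul_inv_rev, inv_inv] at h3
  obtain ⟨b, hb⟩ : ∃ b, N.relIndex (H ⊓ M) = p ^ b := by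
    rw [h2]
    obtain ⟨a, ha⟩ := (hQ.to_le (inf_le_right : H ⊓ Q ≤ Q)).exists_card_eq
    exact exists_pow hp (m := a) (by
      rw [← ha]
      exact relIndex_dvd_card N (H ⊓ Q))
  -- (3)
  have h3 : H.relIndex (N ⊓ M) ∣ p ^ (k + b) := by
    have e1 : H.relIndex M = p ^ k := by
      rw [relIndex_eq hcopHM, hH]
    have e2 : (N ⊓ (H ⊓ M)).relIndex (H ⊓ M) * (H ⊓ M).relIndex M = (N ⊓ (H ⊓ M)).relIndex M :=
      relIndex_mul_relIndex _ _ _ inf_le_right inf_le_right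
    have e3 : (N ⊓ (H ⊓ M)).relIndex M = p ^ (k + b) := by
      rw [← e2, inf_relIndex_right, hb, inf_relIndex_right, e1, ← pow_add, add_comm]
    have e4 : (N ⊓ (H ⊓ M)).relIndex (N ⊓ M) * (N ⊓ M).relIndex M = (N ⊓ (H ⊓ M)).relIndex M :=
      relIndex_mul_relIndex _ _ _ (inf_le_inf_left _ inf_le_right) inf_le_right
    have e5 : (N ⊓ (H ⊓ M)).relIndex (N ⊓ M) = H.relIndex (N ⊓ M) := by
      rw [← inf_relIndex_right H (N ⊓ M)]
      congr 1
      ext x
      simp only [mem_inf]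
      tauto
    rw [← e3, ← e4, e5]
    exact dvd_mul_right _ _
  rw [h1]
  exact exists_pow hp h3

/-- **Lemma K** -/
theorem le_of_centralizer (hp : p.Prime) {H M Q Y K : Subgroup G} (hH : H.index = p ^ k) (hM : ¬ p ∣ M.index)
    (hQM : Q ≤ M) (hMQ : M ≤ normalizer (Q : Set G)) (hQ : IsPGroup p Q) (hYM : Y ≤ M) (hY : ¬ p ∣ Nat.card Y)
    (hMY : ∀ m ∈ M, ∀ y ∈ Y, m * y * m⁻¹ ∈ Q ⊔ Y) (hYH : Y ≤ H) (hKY : K ≤ centralizer (Y : Set G))
    (hCK : centralizer (Y : Set G) ≤ normalizer (K : Set G)) (hgood : Good p K) : K ≤ H := by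
  obtain ⟨j, hj⟩ := relIndex_normalizer hp hH hM hQM hMQ hQ hYM hY hMY hYH
  have h1 : H.relIndex K ∣ p ^ j := by
    rw [← hj]
    refine (relIndex_dvd_of_le_normalizer H hKY hCK).trans ?_
    apply relIndex_dvd_of_le_normalizer H
    · intro x hx
      rw [mem_normalizer_iff]
      intro y
      rw [mem_centralizer_iff] at hx
      constructor
      · intro hy
        have e : x * y * x⁻¹ = y := by rw [← hx y hy, mul_inv_cancel_right]
        rwa [e]
      · intro hy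
        have e : y = x⁻¹ * (x * y * x⁻¹) * x := by group
        have h2 := hx _ hy
        have e' : x⁻¹ * (x * y * x⁻¹) * x = x * y * x⁻¹ := by
          rw [mul_assoc, h2, inv_mul_cancel_left]
        rw [e, e']
        exact hy
    · intro n hn
      rw [mem_normalizer_iff]
      intro x
      have h3 : ∀ n ∈ normalizer (Y : Set G), ∀ x ∈ centralizer (Y : Set G), n * x * n⁻¹ ∈ centralizer (Y : Set G) := by
        intro n hn x hx
        rw [mem_centralizer_iff] at hx ⊢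
        intro y hy
        have h4 : n⁻¹ * y * n ∈ Y := by
          have := (mem_normalizer_iff.1 (inv_mem hn) y).1 hy
          rwa [inv_inv] at this
        have h5 := hx _ h4
        calc y * (n * x * n⁻¹) = n * ((n⁻¹ * y * n) * x) * n⁻¹ := by group
          _ = n * (x * (n⁻¹ * y * n)) * n⁻¹ := by rw [h5]
          _ = n * x * n⁻¹ * y := by group
      constructor
      · exact h3 n hn x
      · intro hx
        have h4 := h3 n⁻¹ (inv_mem hn) _ hx
        rwa [show n⁻¹ * (n * x * n⁻¹) * n⁻¹⁻¹ = x by group] at h4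
  obtain ⟨i, hi⟩ := exists_pow hp h1
  have h2 := hgood (H.subgroupOf K) i hi
  rwa [subgroupOf_eq_top] at h2

/-- `H` contains a conjugate of `Y` -/
theorem exists_conj_le_H (hp : p.Prime) {H M Q Y : Subgroup G} (hH : H.index = p ^ k) (hM : ¬ p ∣ M.index)
    (hQM : Q ≤ M) (hMQ : M ≤ normalizer (Q : Set G)) (hQ : IsPGroup p Q) (hYM : Y ≤ M) (hY : ¬ p ∣ Nat.card Y)
    (hMY : ∀ m ∈ M, ∀ y ∈ Y, m * y * m⁻¹ ∈ Q ⊔ Y) : ∃ g ∈ Q, ∀ y ∈ Y, g * y * g⁻¹ ∈ H := by
  have hcopHM : H.index.Coprime M.index := by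
    rw [hH]
    exact Nat.Coprime.pow_left _ ((Nat.Prime.coprime_iff_not_dvd hp).2 hM)
  have h1 : H.relIndex (Q ⊔ Y) ∣ p ^ k := by
    rw [← hH, ← relIndex_eq hcopHM]
    apply relIndex_dvd_of_le_normalizer H (sup_le hQM hYM)
    have h3 : ∀ m ∈ M, ∀ x ∈ Q ⊔ Y, m * x * m⁻¹ ∈ Q ⊔ Y := by
      intro m hm x hx
      have h4 : x ∈ ((Q ⊔ Y : Subgroup G) : Set G) := hx
      rw [Subgroup.coe_mul_of_right_le_normalizer_left Q Y (hYM.trans hMQ)] at h4
      obtain ⟨q, hq, y, hy, rfl⟩ := Set.mem_mul.1 h4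
      have e : m * (q * y) * m⁻¹ = (m * q * m⁻¹) * (m * y * m⁻¹) := by group
      rw [e]
      exact mul_mem (mem_sup_left ((mem_normalizer_iff.1 (hMQ hm) q).1 hq)) (hMY m hm y hy)
    intro m hm
    rw [mem_normalizer_iff]
    intro x
    constructor
    · exact h3 m hm x
    · intro hx
      have h4 := h3 m⁻¹ (inv_mem hm) _ hx
      rwa [show m⁻¹ * (m * x * m⁻¹) * m⁻¹⁻¹ = x by group] at h4
  obtain ⟨j, hj⟩ := exists_pow hp h1
  exact exists_conj_le_of_sup hp hQ (hYM.trans hMQ) hY hj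

/-- **Lemma K**, for a `p'`-group `T` of `M` central modulo `Q`: one conjugate of `H` contains `T` and every good
normal subgroup of every `C_G(Y)`, `Y ≤ T`. -/
theorem exists_conj_of_torus (hp : p.Prime) {H M Q T : Subgroup G} (hH : H.index = p ^ k) (hM : ¬ p ∣ M.index)
    (hQM : Q ≤ M) (hMQ : M ≤ normalizer (Q : Set G)) (hQ : IsPGroup p Q) (hTM : T ≤ M) (hT : ¬ p ∣ Nat.card T)
    (hMT : ∀ m ∈ M, ∀ t ∈ T, m * t * m⁻¹ * t⁻¹ ∈ Q) :
    ∃ H' : Subgroup G, H'.index = p ^ k ∧ (∃ g : G, ∀ x, x ∈ H' ↔ g * x * g⁻¹ ∈ H) ∧ T ≤ H' ∧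
      ∀ Y K : Subgroup G, Y ≤ T → K ≤ centralizer (Y : Set G) →
        centralizer (Y : Set G) ≤ normalizer (K : Set G) → Good p K → K ≤ H' := by
  have hMY : ∀ Y : Subgroup G, Y ≤ T → ∀ m ∈ M, ∀ y ∈ Y, m * y * m⁻¹ ∈ Q ⊔ Y := by
    intro Y hYT m hm y hy
    have h1 := hMT m hm y (hYT hy)
    have h2 := mul_mem (mem_sup_left h1 : m * y * m⁻¹ * y⁻¹ ∈ Q ⊔ Y) (mem_sup_right hy)
    rwa [inv_mul_cancel_right] at h2
  obtain ⟨g, -, hg⟩ := exists_conj_le_H hp hH hM hQM hMQ hQ hTM hT (hMY T le_rfl)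
  let H' : Subgroup G := H.comap (MulAut.conj g).toMonoidHom
  have hH'i : H'.index = p ^ k := by
    rw [← hH]
    exact index_comap_of_surjective _ (MulAut.conj g).surjective
  have hTH' : T ≤ H' := fun t ht => hg t ht
  refine ⟨H', hH'i, ⟨g, fun x => Iff.rfl⟩, hTH', ?_⟩
  intro Y K hYT hKY hCK hgood
  have hYc : ¬ p ∣ Nat.card Y := fun h => hT (h.trans (Subgroup.card_dvd_of_le hYT))
  exact le_of_centralizer hp hH'i hM hQM hMQ hQ (hYT.trans hTM) hYc (hMY Y hYT) (hYT.trans hTH') hKY hCK hgood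

/-- Lemma K for a single `p'`-group `Y` with `Q Y` normal in `M` -/
theorem exists_conj_of_centralizer (hp : p.Prime) {H M Q Y K : Subgroup G} (hH : H.index = p ^ k)
    (hM : ¬ p ∣ M.index) (hQM : Q ≤ M) (hMQ : M ≤ normalizer (Q : Set G)) (hQ : IsPGroup p Q) (hYM : Y ≤ M)
    (hY : ¬ p ∣ Nat.card Y) (hMY : ∀ m ∈ M, ∀ y ∈ Y, m * y * m⁻¹ ∈ Q ⊔ Y) (hKY : K ≤ centralizer (Y : Set G))
    (hCK : centralizer (Y : Set G) ≤ normalizer (K : Set G)) (hgood : Good p K) :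
    ∃ g : G, (∀ y ∈ Y, g * y * g⁻¹ ∈ H) ∧ ∀ x ∈ K, g * x * g⁻¹ ∈ H := by
  obtain ⟨g, -, hg⟩ := exists_conj_le_H hp hH hM hQM hMQ hQ hYM hY hMY
  let H' : Subgroup G := H.comap (MulAut.conj g).toMonoidHom
  have hH'i : H'.index = p ^ k := by
    rw [← hH]
    exact index_comap_of_surjective _ (MulAut.conj g).surjective
  have hTH' : Y ≤ H' := fun t ht => hg t ht
  have h1 : K ≤ H' := le_of_centralizer hp hH'i hM hQM hMQ hQ hYM hY hMY hTH' hKY hCK hgood
  exact ⟨g, hg, fun x hx => h1 hx⟩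

end Cfsg.Agent.H408.LemmaK
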