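import Cfsg.Agent.H408.Out
import Cfsg.Agent.S1074
import Cfsg.Prelude.Def_LieTwisted

/-!
# Transport for the Tits group (helper408)
-/

set_option autoImplicit false

namespace Cfsg.Agent.H408.TitsMod

open Cfsg Cfsg.Agent.H408.Idx8

universe u

theorem simple : IsSimpleGroup Lie.TitsGroup := Cfsg.Agent.S1074.result.2.1

theorem card : Nat.card Lie.TitsGroup = 17971200 := by
  have := Cfsg.Agent.S1074.result.2.2.2
  rw [this]; norm_num

theorem finite : Finite Lie.TitsGroup := Nat.finite_of_card_ne_zero (by rw [card]; norm_num)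

theorem idx_of_nonempty {G : Type u} [Group G] {M : Type} [Group M] {p : ℕ} (h0 : Idx M p) (h : Nonempty (G ≃* M)) :
    Idx G p := h.elim fun e => Idx.congr e.symm h0

/-- it is enough to prove the statement for groups in `Type` -/
theorem transport {p : ℕ} (H : ∀ (M : Type) [Group M] [Finite M] [IsSimpleGroup M], Lie.IsoTits M → Idx M p)
    {G : Type u} [Group G] (h : Lie.IsoTits G) : Idx G p := by
  have h0 : Lie.IsoTits Lie.TitsGroup := ⟨MulEquiv.refl Lie.TitsGroup⟩
  have h1 := simple
  have h2 := finite
  exact idx_of_nonempty (H Lie.TitsGroup h0) h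

end Cfsg.Agent.H408.TitsMod
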