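import Cfsg.Agent.H408.SporRows
import Cfsg.Agent.H408.TitsMod
import Cfsg.Agent.H547.SelfCent.Conway
import Cfsg.Agent.H547.SelfCent.McLHS
import Cfsg.Agent.H547.SelfCent.Tits
import Cfsg.Agent.H547.SelfCent.Ru
import Cfsg.Agent.H393.Iso.Co1
import Cfsg.Agent.H393.Iso.Co2
import Cfsg.Agent.H393.Iso.Co3
import Cfsg.Agent.H393.Iso.HS
import Cfsg.Agent.H393.Iso.McLLy
import Cfsg.Agent.H393.Iso.Ru
import Cfsg.Agent.H393.Iso.TitsJ4

/-!
# Rows of S3608: Conway groups, `McL`, `HS`, `Ru`, the Tits group (helper408)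
-/

set_option autoImplicit false

namespace Cfsg.Agent.H408.SporRows

open Subgroup Cfsg Cfsg.Agent.H408.Idx8 Cfsg.Agent.H408.SporEng Cfsg.Agent.OrdDiv

universe u

section

variable (T : OrderTable.{0}) (hS : ∀ (X : Type) [Group X] [Finite X] [IsSimpleGroup X], IsKnownSimple' X)
  {G : Type u} [Group G] [Finite G] (hs : IsSimpleGroup G) {p : ℕ} (hp : p.Prime)
include T hS hs hp

theorem co1 (h : Spor.IsoCo1 G) : Idx G p :=
  h.elim fun e => by
    have hn : Nat.card Spor.Co1 = 4157776806543360000 := NotCT.Orders.co1 ⟨MulEquiv.refl _⟩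
    have hf : Finite Spor.Co1 := Nat.finite_of_card_ne_zero (by rw [hn]; norm_num)
    have h1 : Spor.IsoCo1 Spor.Co1 := ⟨MulEquiv.refl _⟩
    refine row T hS hn (r := 23) (l := [(2, 21), (3, 9), (5, 4), (7, 2), (11, 1), (13, 1), (23, 1)])
      (by decide +kernel) (by norm_num) (by norm_num) (by norm_num) ?_ (bad := []) (by decide +kernel) hs
      (by have h : Spor.IsoCo1 G := ⟨e⟩; unfold IsSporadicGroup; tauto) e hp (by simp)
    exact Self.of_all (by norm_num) (by rw [hn]; norm_num) fun x hx =>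
      H547.SelfCent.Conway.co1 h1 (H393.Iso.na_co1 h1) hx

theorem co2 (h : Spor.IsoCo2 G) : Idx G p :=
  h.elim fun e => by
    have hn : Nat.card Spor.Co2 = 42305421312000 := NotCT.Orders.co2 ⟨MulEquiv.refl _⟩
    have hf : Finite Spor.Co2 := Nat.finite_of_card_ne_zero (by rw [hn]; norm_num)
    have h1 : Spor.IsoCo2 Spor.Co2 := ⟨MulEquiv.refl _⟩
    refine row T hS hn (r := 23) (l := [(2, 18), (3, 6), (5, 3), (7, 1), (11, 1), (23, 1)])
      (by decide +kernel) (by norm_num) (by norm_num) (by norm_num) ?_ (bad := []) (by decide +kernel) hs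
      (by have h : Spor.IsoCo2 G := ⟨e⟩; unfold IsSporadicGroup; tauto) e hp (by simp)
    exact Self.of_all (by norm_num) (by rw [hn]; norm_num) fun x hx =>
      H547.SelfCent.Conway.co2 h1 (H393.Iso.na_co2 h1) hx

theorem co3 (h : Spor.IsoCo3 G) : Idx G p :=
  h.elim fun e => by
    have hn : Nat.card Spor.Co3 = 495766656000 := NotCT.Orders.co3 ⟨MulEquiv.refl _⟩
    have hf : Finite Spor.Co3 := Nat.finite_of_card_ne_zero (by rw [hn]; norm_num)
    have h1 : Spor.IsoCo3 Spor.Co3 := ⟨MulEquiv.refl _⟩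
    refine row T hS hn (r := 23) (l := [(2, 10), (3, 7), (5, 3), (7, 1), (11, 1), (23, 1)])
      (by decide +kernel) (by norm_num) (by norm_num) (by norm_num) ?_ (bad := []) (by decide +kernel) hs
      (by have h : Spor.IsoCo3 G := ⟨e⟩; unfold IsSporadicGroup; tauto) e hp (by simp)
    exact Self.of_all (by norm_num) (by rw [hn]; norm_num) fun x hx =>
      H547.SelfCent.Conway.co3 h1 (H393.Iso.na_co3 h1) hx

theorem mcl (h : Spor.IsoMcL G) : Idx G p :=
  h.elim fun e => by
    have hn : Nat.card Spor.McL = 898128000 := NotCT.Orders.mcl ⟨MulEquiv.refl _⟩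
    have hf : Finite Spor.McL := Nat.finite_of_card_ne_zero (by rw [hn]; norm_num)
    have h1 : Spor.IsoMcL Spor.McL := ⟨MulEquiv.refl _⟩
    have hs' : IsSimpleGroup Spor.McL := (MulEquiv.isSimpleGroup_congr e).1 hs
    refine row T hS hn (r := 11) (l := [(2, 7), (3, 6), (5, 3), (7, 1), (11, 1)])
      (by decide +kernel) (by norm_num) (by norm_num) (by norm_num) ?_ (bad := []) (by decide +kernel) hs
      (by have h : Spor.IsoMcL G := ⟨e⟩; unfold IsSporadicGroup; tauto) e hp (by simp)
    exact Self.of_all (by norm_num) (by rw [hn]; norm_num) fun x hx =>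
      H547.SelfCent.McLHS.mcl h1 (H393.Iso.na_mcl h1) hn hx

theorem hisi (h : Spor.IsoHS G) : Idx G p :=
  h.elim fun e => by
    have hn : Nat.card Spor.HS = 44352000 := NotCT.Orders.hs ⟨MulEquiv.refl _⟩
    have hf : Finite Spor.HS := Nat.finite_of_card_ne_zero (by rw [hn]; norm_num)
    have h1 : Spor.IsoHS Spor.HS := ⟨MulEquiv.refl _⟩
    have hs' : IsSimpleGroup Spor.HS := (MulEquiv.isSimpleGroup_congr e).1 hs
    refine row T hS hn (r := 11) (l := [(2, 9), (3, 2), (5, 3), (7, 1), (11, 1)])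
      (by decide +kernel) (by norm_num) (by norm_num) (by norm_num) ?_ (bad := []) (by decide +kernel) hs
      (by have h : Spor.IsoHS G := ⟨e⟩; unfold IsSporadicGroup; tauto) e hp (by simp)
    exact Self.of_all (by norm_num) (by rw [hn]; norm_num) fun x hx =>
      H547.SelfCent.McLHS.hs h1 (H393.Iso.na_hs h1) hn hx

theorem ru (h : Spor.IsoRu G) : Idx G p :=
  h.elim fun e => by
    have hn : Nat.card Spor.Ru = 145926144000 := NotCT.Orders.ru ⟨MulEquiv.refl _⟩
    have hf : Finite Spor.Ru := Nat.finite_of_card_ne_zero (fun h => absurd (hn.symm.trans h) (by norm_num))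
    have h1 : Spor.IsoRu Spor.Ru := ⟨MulEquiv.refl _⟩
    refine row T hS hn (r := 29) (l := [(2, 14), (3, 3), (5, 3), (7, 1), (13, 1), (29, 1)])
      (by decide +kernel) (by norm_num) (by norm_num) (by norm_num) ?_ (bad := []) (by decide +kernel) hs
      (by have h : Spor.IsoRu G := ⟨e⟩; unfold IsSporadicGroup; tauto) e hp (by simp)
    exact Self.of_all (by norm_num) (by rw [hn]; norm_num) fun x hx =>
      H547.SelfCent.Ru.ru h1 (H393.Iso.na_ru h1) hx

end

theorem tits_of (T : OrderTable.{0}) (hS : ∀ (X : Type) [Group X] [Finite X] [IsSimpleGroup X], IsKnownSimple' X)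
    {M : Type} [Group M] [Finite M] [IsSimpleGroup M] (h1 : Lie.IsoTits M) {p : ℕ} (hp : p.Prime) : Idx M p := by
  have hn : Nat.card M = 17971200 := NotCT.Orders.tits h1
  have hself : Self 13 M := Self.of_all (by norm_num) (by rw [hn]; norm_num) fun x hx =>
    H547.SelfCent.tits h1 inferInstance (H393.Iso.na_tits h1) hx
  by_cases hpr : p = 13
  · subst hpr
    intro H k hk hH
    exfalso
    have hd := Subgroup.index_dvd_card H
    have hk1 : k = 1 := by
      by_contra hne
      rw [hH, hn] at hd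
      have h3 : 13 ^ 2 ∣ 17971200 := (pow_dvd_pow 13 (by omega)).trans hd
      revert h3
      norm_num
    subst hk1
    rw [pow_one] at hH
    have h3 := Engine.card_dvd_factorial (G := M) (H := H) (by
      rintro rfl
      rw [index_top] at hH
      omega)
    rw [hH, hn] at h3
    revert h3
    decide +kernel
  · exact Idx.of_good hp (good_of_cent T hS hn (l := [(2, 11), (3, 3), (5, 2), (13, 1)]) (by decide +kernel)
      (by norm_num) hself (bad := []) (by decide +kernel) hp hpr (by simp))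

/-- the Tits group -/
theorem tits (T : OrderTable.{0}) (hS : ∀ (X : Type) [Group X] [Finite X] [IsSimpleGroup X], IsKnownSimple' X)
    {G : Type u} [Group G] [Finite G] {p : ℕ} (hp : p.Prime) (h : Lie.IsoTits G) : Idx G p := by
  exact TitsMod.transport (fun M _ _ _ h1 => tits_of T hS h1 hp) h

end Cfsg.Agent.H408.SporRows
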