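import Cfsg.Agent.H408.PPRows
import Cfsg.Agent.H408.SporRowsB
import Cfsg.Agent.H969.SpIdx
import Cfsg.Agent.H62.PCRows
import Cfsg.Agent.H125.OrthSame
import Cfsg.Agent.H249.PPTwRow
import Cfsg.Agent.H225.PPow.ChevF
import Cfsg.Agent.H225.PPow.ExcE
import Cfsg.Agent.H392.GTwoGood
import Cfsg.Agent.H392.FFourTwo.Good

/-!
# Assembly of S3608 (helper408)
-/

set_option autoImplicit false

namespace Cfsg.Agent.H408.PPAll

open Cfsg Cfsg.Agent.H408.Idx8 Cfsg.Agent.H408.PPMain Cfsg.Agent.H408.Core Cfsg.Agent.OrdDiv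

universe u

/-- symplectic groups, own characteristic -/
theorem psp_same (T : OrderTable.{0}) (hS : ∀ (X : Type) [Group X] [Finite X] [IsSimpleGroup X], IsKnownSimple' X) :
    Same.{u} fun p G _ => IsPSpChar p G := by
  rintro p hp G _ _ hs ⟨F, _, _, _, m, hm, h3, ⟨e⟩⟩
  exact (Cfsg.Agent.H969.SpIdx.idx T hS hp hm h3).congr e.symm

/-- untwisted exceptional groups, own characteristic, from the groups `E_n(2)` -/
theorem exc_same (h6 : ∀ (K : Type) [Field K] [Finite K], Nat.card K = 2 → Good 2 (Lie.chevE6.group K))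
    (h7 : ∀ (K : Type) [Field K] [Finite K], Nat.card K = 2 → Good 2 (Lie.chevE7.group K))
    (h8 : ∀ (K : Type) [Field K] [Finite K], Nat.card K = 2 → Good 2 (Lie.chevE8.group K)) :
    Same.{u} fun p G _ => IsExceptionalChevChar p G := by
  rintro p hp G _ _ hs ⟨F, iF, iFin, iC, h⟩
  have hpf : Fact p.Prime := ⟨hp⟩
  have hcF : Nat.card F = Fintype.card F := Nat.card_eq_fintype_card
  obtain ⟨n, -, hn⟩ := FiniteField.card F p
  have hpF : p ∣ Fintype.card F := by rw [hn]; exact dvd_pow_self p n.ne_zero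
  have h1 : 1 < Fintype.card F := Fintype.one_lt_card
  have h2p : Nat.card F = 2 → p = 2 := fun h => by
    rw [← hcF, h] at hpF
    exact (Nat.prime_dvd_prime_iff_eq hp Nat.prime_two).1 hpF
  have h3p : Nat.card F = 3 → p = 3 := fun h => by
    rw [← hcF, h] at hpF
    exact (Nat.prime_dvd_prime_iff_eq hp Nat.prime_three).1 hpF
  rcases h with ⟨h3, h⟩ | h | h | h | h
  · obtain ⟨e⟩ := h
    refine Idx.congr e.symm (Idx.of_good hp ?_)
    by_cases h : Nat.card F = 3
    · have := h3p h
      subst this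
      exact Cfsg.Agent.H392.GTwoGood.good h
    · exact Cfsg.Agent.H225.PPow.good_G2 F p (by omega)
  · obtain ⟨e⟩ := h
    refine Idx.congr e.symm (Idx.of_good hp ?_)
    by_cases h : Nat.card F = 2
    · have := h2p h
      subst this
      exact Cfsg.Agent.H392.FFourTwo.Good.good h
    · exact Cfsg.Agent.H225.PPow.good_F4 F p (by omega)
  · obtain ⟨e⟩ := h
    refine Idx.congr e.symm (Idx.of_good hp ?_)
    by_cases h : Nat.card F = 2
    · have := h2p h
      subst this
      exact h6 F h
    · exact Cfsg.Agent.H225.PPow.good_E6 F p (by omega)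
  · obtain ⟨e⟩ := h
    refine Idx.congr e.symm (Idx.of_good hp ?_)
    by_cases h : Nat.card F = 2
    · have := h2p h
      subst this
      exact h7 F h
    · exact Cfsg.Agent.H225.PPow.good_E7 F p (by omega)
  · obtain ⟨e⟩ := h
    refine Idx.congr e.symm (Idx.of_good hp ?_)
    by_cases h : Nat.card F = 2
    · have := h2p h
      subst this
      exact h8 F h
    · exact Cfsg.Agent.H225.PPow.good_E8 F p (by omega)

end Cfsg.Agent.H408.PPAll
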