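import Cfsg.Agent.H408.SporRows
import Cfsg.Agent.H408.SelfSuz

/-!
# Row of S3608: `Suz` (helper408)
-/

set_option autoImplicit false

namespace Cfsg.Agent.H408.SporRows

open Subgroup Cfsg Cfsg.Agent.H408.Idx8 Cfsg.Agent.H408.SporEng Cfsg.Agent.OrdDiv

universe u

theorem suz (T : OrderTable.{0}) (hS : ∀ (X : Type) [Group X] [Finite X] [IsSimpleGroup X], IsKnownSimple' X)
    {G : Type u} [Group G] [Finite G] (hs : IsSimpleGroup G) {p : ℕ} (hp : p.Prime) (h : Spor.IsoSuz G) : Idx G p :=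
  h.elim fun e => by
    have hn : Nat.card Spor.Suz = 448345497600 := NotCT.Orders.suz ⟨MulEquiv.refl _⟩
    have hf : Finite Spor.Suz := Finite.of_equiv G e.toEquiv
    have hs' : IsSimpleGroup Spor.Suz := (MulEquiv.isSimpleGroup_congr e).1 hs
    exact row T hS hn (r := 11) (l := [(2, 13), (3, 7), (5, 2), (7, 1), (11, 1), (13, 1)])
      (by decide +kernel) (by norm_num) (by norm_num) (by norm_num) (SelfSuz.suz ⟨MulEquiv.refl _⟩) (bad := [])
      (by decide +kernel) hs (by have h : Spor.IsoSuz G := ⟨e⟩; unfold IsSporadicGroup; tauto) e hp (by simp)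

end Cfsg.Agent.H408.SporRows
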