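import Cfsg.Agent.H408.SporSelf
import Cfsg.Agent.H547.PP.NoIdx
import Cfsg.Agent.H547.PP.Tables
import Cfsg.Agent.H547.PP.RowsTwo
import Cfsg.Agent.H547.PP.RowHN

/-!
# Rows of S3608: `J2`, `He`, `Fi22`, `ON`, `Ly`, `Th`, `B`, `M`, `HN` (helper408, engines by helper547)
-/

set_option autoImplicit false

namespace Cfsg.Agent.H408.SporRowsD

open Subgroup Cfsg Cfsg.Agent.H408.Idx8 Cfsg.Agent.H408.SporEng Cfsg.Agent.OrdDiv Cfsg.Agent.H547.PP
open Cfsg.Agent.H547.PP.Tab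

universe u

/-- from `NoIdx` (indices `p ^ k`, `k ≥ 2`) to all indices -/
theorem idx_of_noIdx {G : Type u} [Group G] [Finite G] (hs : IsSimpleGroup G) (hsp : IsSporadicGroup G)
    (hnp : ¬ (Nat.card G).Prime) (h : NoIdx G) {p : ℕ} (hp : p.Prime) : Idx G p := by
  intro H k hk hH
  by_cases hk1 : k = 1
  · subst hk1
    rw [pow_one] at hH
    rcases Cfsg.Agent.H660.SporPrimeIndex.sporadic_prime_index (not_comm hnp) hsp H p hp hH with ⟨rfl, h2⟩ | ⟨rfl, h2⟩
    · exact Or.inr (Or.inr (Or.inl ⟨by norm_num, Or.inr (Cfsg.Agent.OddHalf.D8.M11.isM11 h2)⟩))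
    · exact Or.inr (Or.inr (Or.inr (Or.inl ⟨by norm_num, Cfsg.Agent.H417.RecogMathieu.isM23 h2⟩)))
  · exact (h p k hp (by omega) H hH).elim

section

variable (T : OrderTable.{0}) (hS : ∀ (X : Type) [Group X] [Finite X] [IsSimpleGroup X], IsKnownSimple' X)
  {G : Type u} [Group G] [Finite G] (hs : IsSimpleGroup G) {p : ℕ} (hp : p.Prime)
include T hS hs hp

theorem j2 (h : Spor.IsoJ2 G) : Idx G p := by
  refine idx_of_noIdx hs (by unfold IsSporadicGroup; tauto) (by rw [NotCT.Orders.j2 h]; norm_num) ?_ hp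
  obtain ⟨e⟩ := h
  have hf : Finite Spor.J2 := Finite.of_equiv G e.toEquiv
  obtain ⟨x, hx, hc⟩ := SporSelf.j2
  exact NoIdx.congr e (noIdx_one T hS (r := 7) (by norm_num) (by norm_num) (NotCT.Orders.j2 ⟨MulEquiv.refl _⟩)
    (by norm_num) v_j2 hx hc o_j2 c_j2)

theorem he (h : Spor.IsoHe G) : Idx G p := by
  refine idx_of_noIdx hs (by unfold IsSporadicGroup; tauto) (by rw [NotCT.Orders.he h]; norm_num) ?_ hp
  obtain ⟨e⟩ := h
  have hf : Finite Spor.He := Finite.of_equiv G e.toEquiv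
  obtain ⟨x, hx, hc⟩ := SporSelf.he
  exact NoIdx.congr e (noIdx_one T hS (r := 17) (by norm_num) (by norm_num) (NotCT.Orders.he ⟨MulEquiv.refl _⟩)
    (by norm_num) v_he hx hc o_he c_he)

theorem fi22 (h : Spor.IsoFi22 G) : Idx G p := by
  refine idx_of_noIdx hs (by unfold IsSporadicGroup; tauto) (by rw [NotCT.Orders.fi22 h]; norm_num) ?_ hp
  obtain ⟨e⟩ := h
  have hf : Finite Spor.Fi22 := Finite.of_equiv G e.toEquiv
  obtain ⟨x, hx, hc⟩ := SporSelf.fi22
  exact NoIdx.congr e (noIdx_one T hS (r := 13) (by norm_num) (by norm_num) (NotCT.Orders.fi22 ⟨MulEquiv.refl _⟩)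
    (by norm_num) v_fi22 hx hc o_fi22 c_fi22)

theorem on (h : Spor.IsoON G) : Idx G p :=
  idx_of_noIdx hs (by unfold IsSporadicGroup; tauto) (by rw [NotCT.Orders.on h]; norm_num) (RowsTwo.on T hS hs h) hp

theorem ly (h : Spor.IsoLy G) : Idx G p :=
  idx_of_noIdx hs (by unfold IsSporadicGroup; tauto) (by rw [NotCT.Orders.ly h]; norm_num) (RowsTwo.ly T hS hs h) hp

theorem th (h : Spor.IsoTh G) : Idx G p :=
  idx_of_noIdx hs (by unfold IsSporadicGroup; tauto) (by rw [NotCT.Orders.th h]; norm_num) (RowsTwo.th T hS hs h) hp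

theorem b (h : Spor.IsoB G) : Idx G p :=
  idx_of_noIdx hs (by unfold IsSporadicGroup; tauto) (by rw [NotCT.Orders.b h]; norm_num) (RowsTwo.b T hS hs h) hp

theorem m (h : Spor.IsoM G) : Idx G p :=
  idx_of_noIdx hs (by unfold IsSporadicGroup; tauto) (by rw [NotCT.Orders.m h]; norm_num) (RowsTwo.m T hS hs h) hp

theorem hn (h : Spor.IsoHN G) : Idx G p :=
  idx_of_noIdx hs (by unfold IsSporadicGroup; tauto) (by rw [NotCT.Orders.hn h]; norm_num) (RowHN.hn T hS hs h) hp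

end

end Cfsg.Agent.H408.SporRowsD
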