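import Cfsg.Agent.H408.SporRows
import Cfsg.Agent.H408.SporRowsB
import Cfsg.Agent.H408.SporRowsC
import Cfsg.Agent.H408.SporRowsD

/-!
# S3608 for the sporadic groups and the Tits group (helper408)
-/

set_option autoImplicit false

namespace Cfsg.Agent.H408.PPSpor

open Cfsg Cfsg.Agent.H408.Idx8 Cfsg.Agent.OrdDiv

universe u

theorem sporadic (T : OrderTable.{0}) (hS : ∀ (X : Type) [Group X] [Finite X] [IsSimpleGroup X], IsKnownSimple' X) :
    ∀ (p : ℕ), p.Prime → ∀ (G : Type u) [Group G] [Finite G], IsSimpleGroup G → IsSporadicGroup G → Idx G p := by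
  intro p hp G _ _ hs h
  rcases h with h | h | h | h | h | h | h | h | h | h | h | h | h | h | h | h | h | h | h | h | h | h | h | h | h | h
  · exact SporRows.m11 T hS hs hp h
  · exact SporRows.m12 T hS hs hp h
  · exact SporRows.m22 T hS hs hp h
  · exact SporRows.m23 T hS hs hp h
  · exact SporRows.m24 T hS hs hp h
  · exact SporRows.j1 T hS hs hp h
  · exact SporRowsD.j2 T hS hs hp h
  · exact SporRows.j3 T hS hs hp h
  · exact SporRows.j4 T hS hs hp h
  · exact SporRows.co1 T hS hs hp h
  · exact SporRows.co2 T hS hs hp h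
  · exact SporRows.co3 T hS hs hp h
  · exact SporRows.mcl T hS hs hp h
  · exact SporRows.hisi T hS hs hp h
  · exact SporRows.suz T hS hs hp h
  · exact SporRowsD.he T hS hs hp h
  · exact SporRows.ru T hS hs hp h
  · exact SporRowsD.on T hS hs hp h
  · exact SporRowsD.ly T hS hs hp h
  · exact SporRowsD.fi22 T hS hs hp h
  · exact SporRows.fi23 T hS hs hp h
  · exact SporRows.fi24 T hS hs hp h
  · exact SporRowsD.hn T hS hs hp h
  · exact SporRowsD.th T hS hs hp h
  · exact SporRowsD.b T hS hs hp h
  · exact SporRowsD.m T hS hs hp h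

end Cfsg.Agent.H408.PPSpor
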