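import Cfsg.Agent.H408.PPAll
import Cfsg.Agent.H408.PPSpor
import Cfsg.Agent.H249.PPSz
import Cfsg.Agent.H249.PPTwF4
import Cfsg.Agent.H249.PPRee

/-!
# All rows of S3608, from the untwisted exceptional groups (helper408)
-/

set_option autoImplicit false

namespace Cfsg.Agent.H408.PPRest

open Cfsg Cfsg.Agent.H408.Idx8 Cfsg.Agent.H408.PPMain Cfsg.Agent.OrdDiv

universe u

variable (T : OrderTable.{0}) (hS : ∀ (X : Type) [Group X] [Finite X] [IsSimpleGroup X], IsKnownSimple' X)
include T hS

theorem sameRows (hE : Same.{u} fun p G _ => IsExceptionalChevChar p G) : SameRows.{u} where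
  psl := PPRows.psl_same
  psp := PPAll.psp_same T hS
  psu := PPRows.psu_same T hS
  pOmegaOdd := Cfsg.Agent.H125.OrthSame.odd T hS
  pOmegaPlus := Cfsg.Agent.H125.OrthSame.plus T hS
  pOmegaMinus := Cfsg.Agent.H125.OrthSame.minus T hS
  excChev := hE
  twisted := Cfsg.Agent.H249.PPTwRow.twisted T hS
  suzuki := Cfsg.Agent.H249.PPSz.suzuki
  ff := Cfsg.Agent.H249.PPTwF4.ff
  ree := Cfsg.Agent.H249.PPRee.ree

theorem rows (hE : Same.{u} fun p G _ => IsExceptionalChevChar p G) : Rows.{u} where
  same := sameRows T hS hE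
  cross := Cfsg.Agent.H62.PCRows.crossRows
  alternating := PPRows.alternating
  sporadic := PPSpor.sporadic T hS
  tits := fun p hp G _ _ _ h => SporRows.tits T hS hp h

end Cfsg.Agent.H408.PPRest
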