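import Mathlib
import Cfsg.Agent.H408.PPMain
import Cfsg.Agent.H408.BaseU
import Cfsg.Agent.H221.PPPsl
import Cfsg.Agent.H605.PSLTwoIndex
import Cfsg.Agent.H62.PPCross
import Cfsg.Agent.H412.AltIndex

/-!
# The rows of S3608 (helper408)
-/

set_option autoImplicit false

namespace Cfsg.Agent.H408.PPRows

open Cfsg Cfsg.Agent.H408.Idx8 Cfsg.Agent.H408.PPMain Cfsg.Agent.H408.Core Cfsg.Agent.OrdDiv

universe u

/-- alternating groups -/
theorem alternating : ∀ (p : ℕ), p.Prime → ∀ (G : Type u) [Group G] [Finite G], IsSimpleGroup G → IsAlternating G →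
    Idx G p := by
  rintro p hp G _ _ hs ⟨n, hn, ⟨e⟩⟩ H k hk hH
  have h1 := Cfsg.Agent.H412.AltIndex.card_eq_of_iso hn e H hp hk hH
  subst h1
  exact Or.inl ⟨hn, ⟨e⟩⟩

/-- `PSL_2(q)` -/
theorem psl_two (p : ℕ) (hp : p.Prime) {G : Type u} [Group G] [Finite G] {F : Type} [Field F] [Fintype F]
    (h4 : 4 ≤ Fintype.card F) (e : G ≃* Matrix.ProjectiveSpecialLinearGroup (Fin 2) F) : Idx G p :=
  fun H k hk hH => Cfsg.Agent.H605.PSLTwoIndex.out h4 e H p k hp hk hH

/-- linear groups, own characteristic -/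
theorem psl_same : Same.{u} fun p G _ => IsPSLChar p G := by
  rintro p hp G _ _ hs ⟨F, _, _, _, n, hn, h4, ⟨e⟩⟩
  by_cases h2 : n = 2
  · subst h2
    exact psl_two p hp (h4 rfl) e
  · exact (Cfsg.Agent.H221.PP.idx hp (by omega)).congr e.symm

/-- unitary groups, own characteristic -/
theorem psu_same (T : OrderTable.{0}) (hS : ∀ (X : Type) [Group X] [Finite X] [IsSimpleGroup X], IsKnownSimple' X) :
    Same.{u} fun p G _ => IsPSUChar p G := by
  rintro p hp G _ _ hs ⟨F, _, _, _, n, q, hF, hn, h32, ⟨e⟩⟩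
  have : Fact p.Prime := ⟨hp⟩
  exact (Idx.of_good hp (Cfsg.Agent.H408.BaseU.good_psu T hS hF hn h32)).congr e.symm

/-- exceptional groups, other characteristics -/
theorem exceptional_cross : Cross.{u} fun r G _ => IsExceptionalChevChar r G ∨ IsTwistedE6D4Char r G ∨
    (r = 2 ∧ Lie.IsoSuzuki G) ∨ (r = 2 ∧ Lie.Iso2F4 G) ∨ (r = 3 ∧ Lie.IsoRee G) := by
  intro p r hp hpr G _ _ hs h H k hk hH
  exact (Cfsg.Agent.H62.PPCross.cross h hp hpr hk hH).elim

end Cfsg.Agent.H408.PPRows
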