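import Cfsg.Agent.H408.SporSelf

/-!
# Rows of S3608: sporadic groups with a self-centralising element of prime order (helper408)
-/

set_option autoImplicit false

namespace Cfsg.Agent.H408.SporRows

open Subgroup Cfsg Cfsg.Agent.H408.Idx8 Cfsg.Agent.H408.SporEng Cfsg.Agent.OrdDiv

universe u

section

variable (T : OrderTable.{0}) (hS : ∀ (X : Type) [Group X] [Finite X] [IsSimpleGroup X], IsKnownSimple' X)
  {G : Type u} [Group G] [Finite G] (hs : IsSimpleGroup G) {p : ℕ} (hp : p.Prime)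
include T hS hs hp

theorem m11 (h : Spor.IsoM11 G) : Idx G p :=
  h.elim fun e => row T hS (NotCT.Orders.m11 ⟨MulEquiv.refl _⟩) (l := [(2, 4), (3, 2), (5, 1), (11, 1)])
    (by decide +kernel) (by norm_num) (by norm_num) (by norm_num) SporSelf.m11 (bad := []) (by decide +kernel) hs
    (by have h : Spor.IsoM11 G := ⟨e⟩; unfold IsSporadicGroup; tauto) e hp (by simp)

theorem m12 (h : Spor.IsoM12 G) : Idx G p :=
  h.elim fun e => row T hS (NotCT.Orders.m12 ⟨MulEquiv.refl _⟩) (l := [(2, 6), (3, 3), (5, 1), (11, 1)])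
    (by decide +kernel) (by norm_num) (by norm_num) (by norm_num) SporSelf.m12 (bad := []) (by decide +kernel) hs
    (by have h : Spor.IsoM12 G := ⟨e⟩; unfold IsSporadicGroup; tauto) e hp (by simp)

theorem m22 (h : Spor.IsoM22 G) : Idx G p :=
  h.elim fun e => row T hS (NotCT.Orders.m22 ⟨MulEquiv.refl _⟩) (l := [(2, 7), (3, 2), (5, 1), (7, 1), (11, 1)])
    (by decide +kernel) (by norm_num) (by norm_num) (by norm_num) SporSelf.m22 (bad := []) (by decide +kernel) hs
    (by have h : Spor.IsoM22 G := ⟨e⟩; unfold IsSporadicGroup; tauto) e hp (by simp)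

theorem m23 (h : Spor.IsoM23 G) : Idx G p :=
  h.elim fun e => row T hS (NotCT.Orders.m23 ⟨MulEquiv.refl _⟩)
    (l := [(2, 7), (3, 2), (5, 1), (7, 1), (11, 1), (23, 1)])
    (by decide +kernel) (by norm_num) (by norm_num) (by norm_num) SporSelf.m23 (bad := []) (by decide +kernel) hs
    (by have h : Spor.IsoM23 G := ⟨e⟩; unfold IsSporadicGroup; tauto) e hp (by simp)

theorem m24 (h : Spor.IsoM24 G) : Idx G p :=
  h.elim fun e => row T hS (NotCT.Orders.m24 ⟨MulEquiv.refl _⟩)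
    (l := [(2, 10), (3, 3), (5, 1), (7, 1), (11, 1), (23, 1)])
    (by decide +kernel) (by norm_num) (by norm_num) (by norm_num) SporSelf.m24 (bad := []) (by decide +kernel) hs
    (by have h : Spor.IsoM24 G := ⟨e⟩; unfold IsSporadicGroup; tauto) e hp (by simp)

theorem j1 (h : Spor.IsoJ1 G) : Idx G p :=
  h.elim fun e => row T hS (NotCT.Orders.j1 ⟨MulEquiv.refl _⟩)
    (l := [(2, 3), (3, 1), (5, 1), (7, 1), (11, 1), (19, 1)])
    (by decide +kernel) (by norm_num) (by norm_num) (by norm_num) SporSelf.j1 (bad := []) (by decide +kernel) hs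
    (by have h : Spor.IsoJ1 G := ⟨e⟩; unfold IsSporadicGroup; tauto) e hp (by simp)

/-- `p ≠ 3` -/
theorem j2 (h : Spor.IsoJ2 G) (h3 : p ≠ 3) : Idx G p :=
  h.elim fun e => row T hS (NotCT.Orders.j2 ⟨MulEquiv.refl _⟩) (l := [(2, 7), (3, 3), (5, 2), (7, 1)])
    (by decide +kernel) (by norm_num) (by norm_num) (by norm_num) SporSelf.j2 (bad := [3]) (by decide +kernel) hs
    (by have h : Spor.IsoJ2 G := ⟨e⟩; unfold IsSporadicGroup; tauto) e hp (by simpa using h3)

theorem j3 (h : Spor.IsoJ3 G) : Idx G p := by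
  have hsp : IsSporadicGroup G := by unfold IsSporadicGroup; tauto
  obtain ⟨F, iF, iFin, ω, hF, hω, ⟨e⟩⟩ := h
  have h' : Spor.IsoJ3 (Spor.J3 F ω) := ⟨F, iF, iFin, ω, hF, hω, ⟨MulEquiv.refl _⟩⟩
  exact row T hS (NotCT.Orders.j3 h') (l := [(2, 7), (3, 5), (5, 1), (17, 1), (19, 1)])
    (by decide +kernel) (by norm_num) (by norm_num) (by norm_num) (SporSelf.j3 h') (bad := []) (by decide +kernel) hs
    hsp e hp (by simp)

theorem j4 (h : Spor.IsoJ4 G) : Idx G p :=
  h.elim fun e => row T hS (NotCT.Orders.j4 ⟨MulEquiv.refl _⟩)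
    (l := [(2, 21), (3, 3), (5, 1), (7, 1), (11, 3), (23, 1), (29, 1), (31, 1), (37, 1), (43, 1)])
    (by decide +kernel) (by norm_num) (by norm_num) (by norm_num) SporSelf.j4 (bad := []) (by decide +kernel) hs
    (by have h : Spor.IsoJ4 G := ⟨e⟩; unfold IsSporadicGroup; tauto) e hp (by simp)

/-- `p ≠ 5` -/
theorem he (h : Spor.IsoHe G) (h5 : p ≠ 5) : Idx G p :=
  h.elim fun e => row T hS (NotCT.Orders.he ⟨MulEquiv.refl _⟩) (l := [(2, 10), (3, 3), (5, 2), (7, 3), (17, 1)])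
    (by decide +kernel) (by norm_num) (by norm_num) (by norm_num) SporSelf.he (bad := [5]) (by decide +kernel) hs
    (by have h : Spor.IsoHe G := ⟨e⟩; unfold IsSporadicGroup; tauto) e hp (by simpa using h5)

/-- `p ≠ 2, 3` -/
theorem fi22 (h : Spor.IsoFi22 G) (h2 : p ≠ 2) (h3 : p ≠ 3) : Idx G p :=
  h.elim fun e => row T hS (NotCT.Orders.fi22 ⟨MulEquiv.refl _⟩)
    (l := [(2, 17), (3, 9), (5, 2), (7, 1), (11, 1), (13, 1)])
    (by decide +kernel) (by norm_num) (by norm_num) (by norm_num) SporSelf.fi22 (bad := [2, 3]) (by decide +kernel) hs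
    (by have h : Spor.IsoFi22 G := ⟨e⟩; unfold IsSporadicGroup; tauto) e hp (by simpa using ⟨h2, h3⟩)

theorem fi23 (h : Spor.IsoFi23 G) : Idx G p :=
  h.elim fun e => row T hS (NotCT.Orders.fi23 ⟨MulEquiv.refl _⟩)
    (l := [(2, 18), (3, 13), (5, 2), (7, 1), (11, 1), (13, 1), (17, 1), (23, 1)])
    (by decide +kernel) (by norm_num) (by norm_num) (by norm_num) SporSelf.fi23 (bad := []) (by decide +kernel) hs
    (by have h : Spor.IsoFi23 G := ⟨e⟩; unfold IsSporadicGroup; tauto) e hp (by simp)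

theorem fi24 (h : Spor.IsoFi24' G) : Idx G p :=
  h.elim fun e => row T hS (NotCT.Orders.fi24 ⟨MulEquiv.refl _⟩)
    (l := [(2, 21), (3, 16), (5, 2), (7, 3), (11, 1), (13, 1), (17, 1), (23, 1), (29, 1)])
    (by decide +kernel) (by norm_num) (by norm_num) (by norm_num) SporSelf.fi24 (bad := []) (by decide +kernel) hs
    (by have h : Spor.IsoFi24' G := ⟨e⟩; unfold IsSporadicGroup; tauto) e hp (by simp)

end

end Cfsg.Agent.H408.SporRows
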